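import Groth.Prelude.Def_CycDet
import Mathlib

/-!
Admissible tuples of a module of finite length: spans, spanning tuples, elementary steps.
-/

set_option autoImplicit false
set_option linter.style.haveILetI false
set_option linter.unusedSectionVars false

universe u v

open IsLocalRing

namespace Groth.Agent.CycDetLib

open CycDet

variable {R : Type u} [CommRing R] [IsLocalRing R] {M : Type v} [AddCommGroup M] [Module R M]

/-- The tuple generates. -/
def Spans {l : ℕ} (e : Adm R M l) : Prop := Submodule.span R (Set.range e.1) = ⊤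

theorem before_mono {l : ℕ} (e : Fin l → M) {i j : ℕ} (h : i ≤ j) : spanBefore R M e i ≤ spanBefore R M e j :=
  Submodule.span_mono (Set.image_mono fun _ hp => lt_of_lt_of_le hp h)

theorem mem_before {l : ℕ} (e : Fin l → M) (p : Fin l) {k : ℕ} (h : (p : ℕ) < k) : e p ∈ spanBefore R M e k :=
  Submodule.subset_span ⟨p, h, rfl⟩

theorem before_le_iff {l : ℕ} (e : Fin l → M) (k : ℕ) (P : Submodule R M) :
    spanBefore R M e k ≤ P ↔ ∀ p : Fin l, (p : ℕ) < k → e p ∈ P := by
  rw [spanBefore, Submodule.span_le]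
  exact ⟨fun h p hp => h ⟨p, hp, rfl⟩, fun h _ ⟨p, hp, e'⟩ => e' ▸ h p hp⟩

theorem before_zero {l : ℕ} (e : Fin l → M) : spanBefore R M e 0 = ⊥ :=
  le_bot_iff.1 ((before_le_iff e 0 ⊥).2 fun _ hp => absurd hp (Nat.not_lt_zero _))

theorem before_of_le {l : ℕ} (e : Fin l → M) {k : ℕ} (hk : l ≤ k) :
    spanBefore R M e k = Submodule.span R (Set.range e) :=
  le_antisymm ((before_le_iff e k _).2 fun p _ => Submodule.subset_span ⟨p, rfl⟩)
    (Submodule.span_le.2 fun _ ⟨p, hp⟩ => hp ▸ mem_before e p (lt_of_lt_of_le p.2 hk))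

theorem before_succ {l : ℕ} (e : Fin l → M) (i : Fin l) :
    spanBefore R M e (i + 1) = spanBefore R M e i ⊔ Submodule.span R {e i} := by
  refine le_antisymm ((before_le_iff e _ _).2 fun p hp => ?_) (sup_le (before_mono e (Nat.le_succ _))
    (Submodule.span_le.2 (Set.singleton_subset_iff.2 (mem_before e i (Nat.lt_succ_self _)))))
  rcases Nat.lt_or_ge (p : ℕ) i with h | h
  · exact le_sup_left (a := spanBefore R M e i) (mem_before e p h)
  · have : p = i := Fin.ext (by omega)
    subst this
    exact le_sup_right (a := spanBefore R M e p) (Submodule.mem_span_singleton_self _)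

theorem before_succ_iff {l : ℕ} (e : Fin l → M) (i : Fin l) (x : M) :
    x ∈ spanBefore R M e (i + 1) ↔ ∃ u : R, x - u • e i ∈ spanBefore R M e i := by
  rw [before_succ, Submodule.mem_sup]
  constructor
  · rintro ⟨s, hs, t, ht, rfl⟩
    obtain ⟨u, rfl⟩ := Submodule.mem_span_singleton.1 ht
    exact ⟨u, by rwa [add_sub_cancel_right]⟩
  · rintro ⟨u, hu⟩
    exact ⟨_, hu, u • e i, Submodule.smul_mem _ u (Submodule.mem_span_singleton_self _), sub_add_cancel _ _⟩

theorem smul_mem_of_not_isUnit {l : ℕ} (e : Adm R M l) (i : Fin l) {r : R} (hr : ¬ IsUnit r) :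
    r • e.1 i ∈ spanBefore R M e.1 i :=
  e.2 i r ((IsLocalRing.mem_maximalIdeal r).2 hr)

/-- Adjoining a new vector killed modulo a submodule raises the length by one. -/
theorem length_sup_singleton (N : Submodule R M) (x : M) (hx : x ∉ N) (hm : ∀ r ∈ maximalIdeal R, r • x ∈ N) :
    Module.length R ↥(N ⊔ Submodule.span R {x}) = Module.length R N + 1 := by
  let P := N ⊔ Submodule.span R {x}
  let xP : P := ⟨x, le_sup_right (a := N) (Submodule.mem_span_singleton_self x)⟩
  let a : R →ₗ[R] P ⧸ N.submoduleOf P := (N.submoduleOf P).mkQ ∘ₗ LinearMap.toSpanSingleton R P xP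
  have hker : LinearMap.ker a = maximalIdeal R := by
    refine le_antisymm (fun r hr => ?_) fun r hr => ?_
    · by_contra hru
      rw [mem_maximalIdeal, mem_nonunits_iff, not_not] at hru
      have h1 : (r • xP : P) ∈ N.submoduleOf P := (Submodule.Quotient.mk_eq_zero _).1 hr
      have h2 : r • x ∈ N := h1
      exact hx ((Submodule.smul_mem_iff_of_isUnit N hru).1 h2)
    · exact (Submodule.Quotient.mk_eq_zero _).2 (hm r hr)
  have hsurj : Function.Surjective a := fun z => by
    obtain ⟨⟨z, hz⟩, rfl⟩ := Submodule.mkQ_surjective _ z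
    obtain ⟨s, hs, t, ht, rfl⟩ := Submodule.mem_sup.1 hz
    obtain ⟨r, rfl⟩ := Submodule.mem_span_singleton.1 ht
    exact ⟨r, (Submodule.Quotient.eq _).2 (show r • x - (s + r • x) ∈ N by
      rw [sub_add_cancel_right]; exact N.neg_mem hs)⟩
  have h := Module.length_eq_add_of_exact (N.submoduleOf P).subtype (N.submoduleOf P).mkQ
    (Submodule.subtype_injective _) (Submodule.mkQ_surjective _)
    (LinearMap.exact_subtype_mkQ _)
  haveI : IsSimpleModule R (R ⧸ (maximalIdeal R : Submodule R R)) :=
    isSimpleModule_iff_isCoatom.2 (Ideal.isMaximal_def.1 inferInstance)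
  rw [h, (Submodule.submoduleOfEquivOfLe (le_sup_left : N ≤ P)).length_eq,
    ← (LinearMap.quotKerEquivOfSurjective a hsurj).length_eq,
    (Submodule.quotEquivOfEq _ _ hker).length_eq, Module.length_eq_one R (R ⧸ (maximalIdeal R : Submodule R R))]

theorem length_before {l : ℕ} (e : Adm R M l) : ∀ k, k ≤ l →
    Module.length R (spanBefore R M e.1 k) ≤ k ∧
      ((∃ a : Fin l, (a : ℕ) < k ∧ e.1 a ∈ spanBefore R M e.1 a) →
        Module.length R (spanBefore R M e.1 k) + 1 ≤ k)
  | 0, _ => by
    refine ⟨?_, fun ⟨a, ha, _⟩ => absurd ha (Nat.not_lt_zero _)⟩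
    rw [before_zero, Module.length_bot]
    exact le_rfl
  | k + 1, hk => by
    obtain ⟨h1, h2⟩ := length_before e k (by omega)
    let i : Fin l := ⟨k, by omega⟩
    have hs : spanBefore R M e.1 (k + 1) = spanBefore R M e.1 k ⊔ Submodule.span R {e.1 i} := before_succ e.1 i
    by_cases hi : e.1 i ∈ spanBefore R M e.1 k
    · rw [hs, sup_eq_left.2 (Submodule.span_le.2 (Set.singleton_subset_iff.2 hi))]
      push_cast
      exact ⟨h1.trans le_self_add, fun _ => add_le_add_left h1 1⟩
    · rw [hs, length_sup_singleton _ _ hi (e.2 i)]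
      push_cast
      refine ⟨add_le_add_left h1 1, fun ⟨a, ha, hd⟩ => ?_⟩
      rcases Nat.lt_or_ge (a : ℕ) k with h | h
      · exact add_le_add_left (h2 ⟨a, h, hd⟩) 1
      · exact absurd (show e.1 i ∈ spanBefore R M e.1 k by
          have : a = i := Fin.ext (show (a : ℕ) = k by omega)
          subst this
          exact hd) hi

theorem not_spans_of_mem {l : ℕ} (hl : Module.length R M = l) (e : Adm R M l) {a : Fin l}
    (ha : e.1 a ∈ spanBefore R M e.1 a) : ¬ Spans e := fun hs => by
  have h := (length_before e l le_rfl).2 ⟨a, a.2, ha⟩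
  rw [before_of_le e.1 le_rfl, hs, Module.length_top, hl] at h
  exact absurd h (by norm_cast; omega)

theorem length_before_eq {l : ℕ} (e : Adm R M l) (h : ∀ a : Fin l, e.1 a ∉ spanBefore R M e.1 a) :
    ∀ k, k ≤ l → Module.length R (spanBefore R M e.1 k) = k
  | 0, _ => by rw [before_zero, Module.length_bot]; rfl
  | k + 1, hk => by
    have hs : spanBefore R M e.1 (k + 1) = spanBefore R M e.1 k ⊔ Submodule.span R {e.1 ⟨k, by omega⟩} :=
      before_succ e.1 ⟨k, by omega⟩
    rw [hs, length_sup_singleton _ _ (h ⟨k, by omega⟩) (e.2 _), length_before_eq e h k (by omega), Nat.cast_succ]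

theorem spans_of_forall {l : ℕ} (hl : Module.length R M = l) (e : Adm R M l)
    (h : ∀ a : Fin l, e.1 a ∉ spanBefore R M e.1 a) : Spans e := by
  have hfl : IsFiniteLength R M := Module.length_ne_top_iff.1 (by rw [hl]; exact ENat.natCast_ne_top l)
  obtain ⟨_, _⟩ := isFiniteLength_iff_isNoetherian_isArtinian.1 hfl
  by_contra hne
  have h1 := length_before_eq e h l le_rfl
  rw [before_of_le e.1 le_rfl] at h1
  exact (Submodule.length_lt hne).ne (h1.trans hl.symm)

theorem spans_iff_forall {l : ℕ} (hl : Module.length R M = l) (e : Adm R M l) :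
    Spans e ↔ ∀ a : Fin l, e.1 a ∉ spanBefore R M e.1 a :=
  ⟨fun hs _ ha => not_spans_of_mem hl e ha hs, spans_of_forall hl e⟩

/-- A unit change of one entry. -/
def Change {l : ℕ} (e e' : Fin l → M) (a : Fin l) (c : Rˣ) : Prop :=
  (∀ j, j ≠ a → e j = e' j) ∧ e a - (c : R) • e' a ∈ spanBefore R M e a

theorem Change.before_eq {l : ℕ} {e e' : Fin l → M} {a : Fin l} {c : Rˣ} (h : Change e e' a c) (k : ℕ) :
    spanBefore R M e k = spanBefore R M e' k := by
  have hb : ∀ k, k ≤ (a : ℕ) → spanBefore R M e k = spanBefore R M e' k := fun k hk => by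
    refine congrArg (Submodule.span R) (Set.image_congr fun p hp => h.1 p fun hpa => ?_)
    subst hpa
    exact absurd hp (show ¬ ((p : ℕ) < k) by omega)
  by_cases hk : k ≤ (a : ℕ)
  · exact hb k hk
  · have hd := h.2
    refine le_antisymm ((before_le_iff e k _).2 fun p hp => ?_) ((before_le_iff e' k _).2 fun p hp => ?_)
    · by_cases hpa : p = a
      · subst hpa
        rw [hb _ le_rfl] at hd
        have := Submodule.add_mem _ (before_mono e' hp.le hd) (Submodule.smul_mem _ (c : R) (mem_before e' p hp))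
        rwa [sub_add_cancel] at this
      · rw [h.1 p hpa]
        exact mem_before e' p hp
    · by_cases hpa : p = a
      · subst hpa
        have h3 := Submodule.sub_mem _ (mem_before (R := R) e p hp) (before_mono e hp.le hd)
        rw [sub_sub_cancel] at h3
        exact (Submodule.smul_mem_iff_of_isUnit _ c.isUnit).1 h3
      · rw [← h.1 p hpa]
        exact mem_before e p hp

theorem Change.spans_iff {l : ℕ} {e e' : Adm R M l} {a : Fin l} {c : Rˣ} (h : Change e.1 e'.1 a c) :
    Spans e ↔ Spans e' := by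
  rw [Spans, Spans, ← before_of_le (R := R) e.1 le_rfl, ← before_of_le (R := R) e'.1 le_rfl, h.before_eq]

/-- Exchange of two neighbours. -/
def Swap {l : ℕ} (e e' : Fin l → M) (a b : Fin l) : Prop :=
  (b : ℕ) + 1 = a ∧ (∀ r ∈ maximalIdeal R, r • e a ∈ spanBefore R M e b) ∧ e' = e ∘ Equiv.swap a b

theorem before_comp_swap {l : ℕ} (e : Fin l → M) {a b : Fin l} (hab : (b : ℕ) + 1 = a) {k : ℕ} (hk : k ≠ a) :
    spanBefore R M (e ∘ Equiv.swap a b) k = spanBefore R M e k := by
  refine congrArg (Submodule.span R) ?_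
  rw [Set.image_comp]
  refine congrArg (e '' ·) (Set.ext fun p => ?_)
  rw [Set.mem_image_equiv, Equiv.symm_swap, Set.mem_ofPred_eq, Set.mem_ofPred_eq, Equiv.swap_apply_def]
  split_ifs with h1 h2
  · subst h1; omega
  · subst h2; omega
  · exact Iff.rfl

theorem Swap.isAdmissible {l : ℕ} {e : Adm R M l} {e' : Fin l → M} {a b : Fin l}
    (h : Swap (R := R) e.1 e' a b) : IsAdmissible R M e' := by
  obtain ⟨hab, hm, rfl⟩ := h
  intro i r hr
  by_cases hia : i = a
  · subst hia
    rw [Function.comp_apply, Equiv.swap_apply_left]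
    have := e.2 b r hr
    rw [← before_comp_swap (R := R) e.1 hab (k := (b : ℕ)) (by omega)] at this
    exact before_mono _ (by omega) this
  · rw [before_comp_swap e.1 hab (fun hc => hia (Fin.ext hc)), Function.comp_apply, Equiv.swap_apply_def, if_neg hia]
    split_ifs with hib
    · subst hib; exact hm r hr
    · exact e.2 i r hr

theorem Swap.spans_iff {l : ℕ} {e e' : Adm R M l} {a b : Fin l} (h : Swap (R := R) e.1 e'.1 a b) :
    Spans e ↔ Spans e' := by
  rw [Spans, Spans, h.2.2, EquivLike.range_comp]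

/-- Elementary steps connect any two spanning tuples, without leaving a given set of entries. -/
theorem connect {l : ℕ} (hl : Module.length R M = l) (T : Set M) (P : Adm R M l → Adm R M l → Prop)
    (hrefl : ∀ e, P e e) (htrans : ∀ e e' e'', P e e' → P e' e'' → P e e'')
    (hchange : ∀ (e e' : Adm R M l) (a : Fin l) (c : Rˣ), Spans e → Spans e' → (∀ p, e.1 p ∈ T) →
      (∀ p, e'.1 p ∈ T) → Change e.1 e'.1 a c → P e e')
    (hswap : ∀ (e e' : Adm R M l) (a b : Fin l), Spans e → Spans e' → (∀ p, e.1 p ∈ T) →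
      (∀ p, e'.1 p ∈ T) → Swap (R := R) e.1 e'.1 a b → P e e')
    (e' e : Adm R M l) (he' : Spans e') (he : Spans e) (hT' : ∀ p, e'.1 p ∈ T) (hT : ∀ p, e.1 p ∈ T) :
    P e' e := by
  have move : ∀ (d j : ℕ) (g : Adm R M l) (i : Fin l), (i : ℕ) = j + d → Spans g → (∀ p, g.1 p ∈ T) →
      (∀ r ∈ maximalIdeal R, r • g.1 i ∈ spanBefore R M g.1 j) →
      ∃ g' : Adm R M l, P g g' ∧ Spans g' ∧ (∀ p, g'.1 p ∈ T) ∧ (∀ p : Fin l, (p : ℕ) < j → g'.1 p = g.1 p) ∧
        (∀ p : Fin l, (p : ℕ) = j → g'.1 p = g.1 i) := by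
    intro d
    induction d with
    | zero =>
      intro j g i hij hg hgT _
      exact ⟨g, hrefl g, hg, hgT, fun _ _ => rfl, fun p hp => congrArg g.1 (Fin.ext (by omega))⟩
    | succ d ih =>
      intro j g i hij hg hgT hm
      let b : Fin l := ⟨j + d, by have := i.2; omega⟩
      have hbv : (b : ℕ) = j + d := rfl
      have hsw : Swap (R := R) g.1 (g.1 ∘ Equiv.swap i b) i b :=
        ⟨by omega, fun r hr => before_mono _ (by omega) (hm r hr), rfl⟩
      let g₁ : Adm R M l := ⟨_, hsw.isAdmissible⟩
      have hs₁ : Spans g₁ := (Swap.spans_iff (e := g) (e' := g₁) hsw).1 hg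
      have hT₁ : ∀ p, g₁.1 p ∈ T := fun p => hgT _
      have hval : g₁.1 b = g.1 i := congrArg g.1 (Equiv.swap_apply_right _ _)
      have hlt : ∀ p : Fin l, (p : ℕ) < j → g₁.1 p = g.1 p := fun p hp =>
        congrArg g.1 (Equiv.swap_apply_of_ne_of_ne (fun h => by rw [h] at hp; omega) (fun h => by rw [h] at hp; omega))
      obtain ⟨g', h1, h2, h3, h4, h5⟩ := ih j g₁ b hbv hs₁ hT₁ fun r hr => by
        rw [hval, show spanBefore R M g₁.1 j = spanBefore R M g.1 j from before_comp_swap g.1 hsw.1 (by omega)]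
        exact hm r hr
      exact ⟨g', htrans _ _ _ (hswap g g₁ i b hg hs₁ hgT hT₁ hsw) h1, h2, h3,
        fun p hp => (h4 p hp).trans (hlt p hp), fun p hp => (h5 p hp).trans hval⟩
  suffices H : ∀ (d : ℕ) (g : Adm R M l), Spans g → (∀ p, g.1 p ∈ T) →
      (∀ p : Fin l, (p : ℕ) + d < l → g.1 p = e.1 p) → P g e from
    H l e' he' hT' fun p hp => absurd hp (by omega)
  intro d
  induction d with
  | zero =>
    intro g _ _ hag
    rw [show g = e from Subtype.ext (funext fun p => hag p (by have := p.2; omega))]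
    exact hrefl e
  | succ d ih =>
    intro g hg hgT hag
    by_cases hdl : l ≤ d
    · exact ih g hg hgT fun p hp => absurd hp (by omega)
    classical
    let j : Fin l := ⟨l - (d + 1), by omega⟩
    have hjv : (j : ℕ) + (d + 1) = l := by show l - (d + 1) + (d + 1) = l; omega
    let f := e.1 j
    have hpre : spanBefore R M g.1 j = spanBefore R M e.1 j :=
      congrArg (Submodule.span R) (Set.image_congr fun p (hp : (p : ℕ) < j) => hag p (by omega))
    have hfj : f ∉ spanBefore R M g.1 j := hpre ▸ fun h => not_spans_of_mem hl e h he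
    have hex : ∃ k : ℕ, f ∈ spanBefore R M g.1 k := ⟨l, by rw [before_of_le g.1 le_rfl, hg]; trivial⟩
    obtain ⟨i, hi⟩ : ∃ i, Nat.find hex = i + 1 := ⟨Nat.find hex - 1, by
      have h0 : Nat.find hex ≠ 0 := fun h => by
        have := Nat.find_spec hex
        rw [h, before_zero] at this
        exact hfj ((Submodule.mem_bot R).1 this ▸ Submodule.zero_mem _)
      omega⟩
    have hil : i < l := by
      have : Nat.find hex ≤ l := Nat.find_min' hex (by rw [before_of_le g.1 le_rfl, hg]; trivial)
      omega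
    let i' : Fin l := ⟨i, hil⟩
    have hji : (j : ℕ) ≤ i := by
      by_contra hlt
      exact hfj (before_mono g.1 (by omega) (Nat.find_spec hex))
    have hnot : f ∉ spanBefore R M g.1 i' := Nat.find_min hex (show i < Nat.find hex by omega)
    obtain ⟨u, hu⟩ := (before_succ_iff g.1 i' f).1 (by rw [show ((i' : ℕ) + 1) = Nat.find hex from hi.symm]; exact Nat.find_spec hex)
    have huu : IsUnit u := by
      by_contra hu'
      have := Submodule.add_mem _ hu (smul_mem_of_not_isUnit g i' hu')
      rw [sub_add_cancel] at this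
      exact hnot this
    have hch : Change g.1 (Function.update g.1 i' f) i' huu.unit⁻¹ := by
      refine ⟨fun p hp => (Function.update_of_ne hp f g.1).symm, ?_⟩
      rw [Function.update_self]
      have h' := Submodule.neg_mem _ (Submodule.smul_mem _ (↑huu.unit⁻¹ : R) hu)
      rw [smul_sub, smul_smul, huu.val_inv_mul, one_smul, neg_sub] at h'
      exact h'
    have hmf : ∀ r ∈ maximalIdeal R, r • f ∈ spanBefore R M g.1 j := fun r hr => hpre ▸ e.2 j r hr
    let g₀ : Adm R M l := ⟨Function.update g.1 i' f, fun p r hr => by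
      rw [← hch.before_eq]
      by_cases hp : p = i'
      · subst hp
        rw [Function.update_self]
        exact before_mono g.1 hji (hmf r hr)
      · rw [Function.update_of_ne hp]
        exact g.2 p r hr⟩
    have hs₀ : Spans g₀ := (Change.spans_iff (e := g) (e' := g₀) hch).1 hg
    have hT₀ : ∀ p, g₀.1 p ∈ T := fun p => by
      show Function.update g.1 i' f p ∈ T
      by_cases hp : p = i'
      · subst hp; rw [Function.update_self]; exact hT j
      · rw [Function.update_of_ne hp]; exact hgT p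
    obtain ⟨g', h1, h2, h3, h4, h5⟩ := move (i - (j : ℕ)) j g₀ i' (by show i = _; omega) hs₀ hT₀ fun r hr => by
      rw [show g₀.1 i' = f from Function.update_self i' f g.1,
        show spanBefore R M g₀.1 j = spanBefore R M g.1 j from (hch.before_eq j).symm]
      exact hmf r hr
    refine htrans _ _ _ (hchange g g₀ i' _ hg hs₀ hgT hT₀ hch) (htrans _ _ _ h1 (ih g' h2 h3 fun p hp => ?_))
    by_cases hpj : (p : ℕ) = j
    · rw [h5 p hpj, show g₀.1 i' = f from Function.update_self i' f g.1, show p = j from Fin.ext hpj]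
    · rw [h4 p (by omega), show g₀.1 p = g.1 p from Function.update_of_ne
        (fun h => by have h6 : (p : ℕ) = i := congrArg Fin.val h; omega) f g.1]
      exact hag p (by omega)

end Groth.Agent.CycDetLib
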