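import Groth.Agent.CycDetLib.Functional

/-!
Modules filtered by copies of `R/q`, seen inside their localisation at `q`.
-/

set_option autoImplicit false
set_option linter.style.haveILetI false
set_option linter.unusedSectionVars false

universe u v

open IsLocalRing

noncomputable section

namespace Groth.Agent.CycDetLib

open CycDet

variable {R : Type u} [CommRing R] [IsLocalRing R] (q : Ideal R) [q.IsPrime] {N : Type u} [AddCommGroup N] [Module R N]
  {l : ℕ} (y : Fin l → N) (hy : Submodule.span R (Set.range y) = ⊤)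
  (hyq : ∀ i : Fin l, Nonempty ((↥(spanBefore R N y (i + 1)) ⧸
    (spanBefore R N y i).submoduleOf (spanBefore R N y (i + 1))) ≃ₗ[R] (R ⧸ q)))

include hyq in
theorem piece_smul {i : Fin l} {n : N} (hn : n ∈ spanBefore R N y (i + 1)) {t : R} :
    t • n ∈ spanBefore R N y i ↔ t ∈ q ∨ n ∈ spanBefore R N y i := by
  obtain ⟨e⟩ := hyq i
  let P := spanBefore R N y (i + 1)
  let z : ↥P ⧸ (spanBefore R N y i).submoduleOf P := Submodule.Quotient.mk ⟨n, hn⟩
  have h1 : t • n ∈ spanBefore R N y i ↔ t • z = 0 := by
    rw [← Submodule.Quotient.mk_smul, Submodule.Quotient.mk_eq_zero]; exact Iff.rfl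
  have h2 : n ∈ spanBefore R N y i ↔ z = 0 := by
    rw [Submodule.Quotient.mk_eq_zero]; exact Iff.rfl
  rw [h1, h2, ← e.map_eq_zero_iff, ← e.map_eq_zero_iff (x := z), map_smul]
  obtain ⟨a, ha⟩ := Ideal.Quotient.mk_surjective (e z)
  rw [← ha, Algebra.smul_def, Ideal.Quotient.algebraMap_eq, mul_eq_zero, Ideal.Quotient.eq_zero_iff_mem]

include hy hyq in
theorem saturated {k : ℕ} {n : N} {t : R} (ht : t ∉ q) (h : t • n ∈ spanBefore R N y k) :
    n ∈ spanBefore R N y k := by
  suffices H : ∀ j, j + k ≤ l → n ∈ spanBefore R N y (j + k) → n ∈ spanBefore R N y k by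
    by_cases hk : k ≤ l
    · exact H (l - k) (by omega) (by rw [before_of_le y (by omega), hy]; trivial)
    · rw [before_of_le y (by omega), hy]; trivial
  intro j
  induction j with
  | zero => intro _ hn; rwa [Nat.zero_add] at hn
  | succ j ih =>
    intro hj hn
    refine ih (by omega) ?_
    let i : Fin l := ⟨j + k, by omega⟩
    have hn' : n ∈ spanBefore R N y ((i : ℕ) + 1) := by rwa [show (i : ℕ) + 1 = j + 1 + k by show j + k + 1 = _; omega]
    rcases (piece_smul q y hyq hn' (t := t)).1 (before_mono y (by show k ≤ j + k; omega) h) with h' | h'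
    · exact absurd h' ht
    · exact h'

include hyq in
theorem not_mem_before (i : Fin l) : y i ∉ spanBefore R N y i := by
  obtain ⟨e⟩ := hyq i
  intro h
  have hle : spanBefore R N y (i + 1) ≤ spanBefore R N y i := by
    rw [before_succ]
    exact sup_le le_rfl (Submodule.span_le.2 (Set.singleton_subset_iff.2 h))
  have : Subsingleton (R ⧸ q) := by
    haveI : Subsingleton (↥(spanBefore R N y (i + 1)) ⧸
        (spanBefore R N y i).submoduleOf (spanBefore R N y (i + 1))) :=
      Submodule.Quotient.subsingleton_iff.2 (eq_top_iff.2 fun w _ => hle w.2)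
    exact e.symm.toEquiv.subsingleton
  exact ‹q.IsPrime›.ne_top (Ideal.Quotient.subsingleton_iff.1 this)

include hyq in
theorem smul_mem_before (i : Fin l) {t : R} (ht : t ∈ q) : t • y i ∈ spanBefore R N y i :=
  (piece_smul q y hyq (mem_before y i (Nat.lt_succ_self _))).2 (Or.inl ht)

variable {V : Type u} [AddCommGroup V] [Module R V] [Module (Localization.AtPrime q) V]
  [IsScalarTower R (Localization.AtPrime q) V] (ι : N →ₗ[R] V) [IsLocalizedModule q.primeCompl ι]

include hy hyq in
theorem injective_ι : Function.Injective ι := by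
  rw [injective_iff_map_eq_zero]
  intro n hn
  obtain ⟨⟨t, ht⟩, htn⟩ := (IsLocalizedModule.eq_zero_iff q.primeCompl ι).1 hn
  have h := saturated q y hy hyq (k := 0) ht (n := n) (by rw [before_zero]; exact (Submodule.mem_bot R).2 htn)
  rwa [before_zero, Submodule.mem_bot] at h

/-- The span over the local ring of the image of a tuple. -/
theorem exists_of_mem_before {k : ℕ} {v : V} (hv : v ∈ spanBefore (Localization.AtPrime q) V (ι ∘ y) k) :
    ∃ t : R, t ∉ q ∧ ∃ n ∈ spanBefore R N y k, t • v = ι n := by
  induction hv using Submodule.span_induction with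
  | mem z hz =>
    obtain ⟨p, hp, rfl⟩ := hz
    exact ⟨1, q.ne_top_iff_one.1 ‹q.IsPrime›.ne_top, y p, mem_before y p hp, one_smul _ _⟩
  | zero => exact ⟨1, q.ne_top_iff_one.1 ‹q.IsPrime›.ne_top, 0, Submodule.zero_mem _, by rw [smul_zero, map_zero]⟩
  | add a b _ _ ha hb =>
    obtain ⟨s, hs, n, hn, e1⟩ := ha
    obtain ⟨t, ht, m, hm, e2⟩ := hb
    refine ⟨s * t, fun h => (‹q.IsPrime›.mem_or_mem h).elim hs ht, t • n + s • m,
      Submodule.add_mem _ (Submodule.smul_mem _ _ hn) (Submodule.smul_mem _ _ hm), ?_⟩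
    rw [map_add, map_smul, map_smul, ← e1, ← e2, smul_add, smul_smul, smul_smul, mul_comm t s]
  | smul c a _ ha =>
    obtain ⟨s, hs, n, hn, e1⟩ := ha
    obtain ⟨⟨r, d⟩, hrd⟩ := IsLocalization.surj q.primeCompl c
    refine ⟨(d : R) * s, fun h => (‹q.IsPrime›.mem_or_mem h).elim d.2 hs, r • n, Submodule.smul_mem _ _ hn, ?_⟩
    rw [map_smul, ← e1, smul_smul, ← algebraMap_smul (Localization.AtPrime q) ((d : R) * s),
      ← algebraMap_smul (Localization.AtPrime q) (r * s), smul_smul, map_mul, map_mul, ← hrd]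
    congr 1
    ring

theorem map_mem_before {k : ℕ} {n : N} (hn : n ∈ spanBefore R N y k) :
    ι n ∈ spanBefore (Localization.AtPrime q) V (ι ∘ y) k := by
  have hle : spanBefore R N y k ≤ ((spanBefore (Localization.AtPrime q) V (ι ∘ y) k).restrictScalars R).comap ι :=
    (before_le_iff y k _).2 fun p hp => mem_before (ι ∘ y) p hp
  exact hle hn

include hy hyq in
theorem mem_before_iff {k : ℕ} (n : N) :
    ι n ∈ spanBefore (Localization.AtPrime q) V (ι ∘ y) k ↔ n ∈ spanBefore R N y k := by
  refine ⟨fun h => ?_, map_mem_before q y ι⟩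
  obtain ⟨t, ht, m, hm, he⟩ := exists_of_mem_before q y ι h
  rw [← map_smul] at he
  exact saturated q y hy hyq ht (injective_ι q y hy hyq ι he ▸ hm)

include hyq in
theorem isAdmissible_map : IsAdmissible (Localization.AtPrime q) V (ι ∘ y) := fun i r hr => by
  obtain ⟨⟨a, d⟩, hrd⟩ := IsLocalization.surj q.primeCompl r
  dsimp only at hrd
  have ha : a ∈ q := by
    refine (IsLocalization.AtPrime.to_map_mem_maximal_iff (Localization.AtPrime q) q a).1 ?_
    rw [← hrd]
    exact Ideal.mul_mem_right _ _ hr
  have hu : IsUnit (algebraMap R (Localization.AtPrime q) (d : R)) := IsLocalization.map_units _ d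
  have h := map_mem_before q y ι (smul_mem_before q y hyq i ha)
  rw [map_smul, ← algebraMap_smul (Localization.AtPrime q) a, ← hrd, mul_comm, mul_smul] at h
  exact (Submodule.smul_mem_iff_of_isUnit _ hu).1 h

include hy in
theorem spans_map : Submodule.span (Localization.AtPrime q) (Set.range (ι ∘ y)) = ⊤ := by
  refine eq_top_iff.2 fun v _ => ?_
  obtain ⟨⟨n, ⟨t, ht⟩⟩, hnt⟩ := IsLocalizedModule.surj q.primeCompl ι v
  have h := map_mem_before q y ι (k := l) (n := n) (by rw [before_of_le y le_rfl, hy]; trivial)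
  have hnt' : t • v = ι n := hnt
  rw [before_of_le _ le_rfl, ← hnt', ← algebraMap_smul (Localization.AtPrime q) t] at h
  exact (Submodule.smul_mem_iff_of_isUnit _
    (IsLocalization.map_units (Localization.AtPrime q) (⟨t, ht⟩ : q.primeCompl))).1 h

include hy hyq in
include ι in
theorem length_localized : Module.length (Localization.AtPrime q) V = l := by
  let e : Adm (Localization.AtPrime q) V l := ⟨ι ∘ y, isAdmissible_map q y hyq ι⟩
  have h := length_before_eq e (fun a => by
    show ι (y a) ∉ _
    rw [show e.1 = ι ∘ y from rfl, mem_before_iff q y hy hyq ι]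
    exact not_mem_before q y hyq a) l le_rfl
  rwa [before_of_le _ le_rfl, show e.1 = ι ∘ y from rfl, spans_map q y hy ι, Module.length_top] at h

end Groth.Agent.CycDetLib
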