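import Groth.Agent.CycDetLib.Basic

/-!
The determinant functional of a spanning tuple.
-/

set_option autoImplicit false
set_option linter.style.haveILetI false
set_option linter.unusedSectionVars false

universe u v

open IsLocalRing

noncomputable section

namespace Groth.Agent.CycDetLib

open CycDet

variable {R : Type u} [CommRing R] [IsLocalRing R] {M : Type v} [AddCommGroup M] [Module R M]

/-- A functional on tuples respecting the admissible relations. -/
structure Respects {l : ℕ} (ψ : Adm R M l → ResidueField R) : Prop where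
  degen : ∀ e : Adm R M l, ¬ Spans e → ψ e = 0
  change : ∀ (e e' : Adm R M l) (a : Fin l) (c : Rˣ), Change e.1 e'.1 a c → ψ e = residue R (c : R) * ψ e'
  swap : ∀ (e e' : Adm R M l) (a b : Fin l), Swap (R := R) e.1 e'.1 a b → ψ e + ψ e' = 0

theorem succAbove_val {l : ℕ} (i : Fin (l + 1)) (p : Fin l) :
    (i.succAbove p : ℕ) = if (p : ℕ) < i then (p : ℕ) else (p : ℕ) + 1 := by
  split_ifs with h
  · rw [Fin.succAbove_of_castSucc_lt _ _ (Fin.lt_def.2 h)]; rfl
  · rw [Fin.succAbove_of_le_castSucc _ _ (Fin.le_def.2 (by simpa using h))]; rfl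

theorem swap_succAbove {l : ℕ} {a b : Fin (l + 1)} (hab : (b : ℕ) + 1 = a) (p : Fin l) :
    Equiv.swap a b (b.succAbove p) = a.succAbove p ∧ Equiv.swap a b (a.succAbove p) = b.succAbove p := by
  have ha := succAbove_val a p
  have hb := succAbove_val b p
  constructor <;>
  · rw [Equiv.swap_apply_def]
    split_ifs with h1 h2
    · have h1' := congrArg Fin.val h1
      apply Fin.ext
      split_ifs at ha hb <;> omega
    · have h1' : _ ≠ (a : ℕ) := fun h => h1 (Fin.ext h)
      have h2' := congrArg Fin.val h2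
      apply Fin.ext
      split_ifs at ha hb <;> omega
    · have h1' : _ ≠ (a : ℕ) := fun h => h1 (Fin.ext h)
      have h2' : _ ≠ (b : ℕ) := fun h => h2 (Fin.ext h)
      apply Fin.ext
      split_ifs at ha hb <;> omega

section Step

variable {l : ℕ} (x : M)

/-- The index at which `x` enters the tuple, with its coefficient. -/
def Wit (g : Adm R M (l + 1)) (i : Fin (l + 1)) (u : R) : Prop :=
  IsUnit u ∧ x - u • g.1 i ∈ spanBefore R M g.1 i

/-- The quotient by the line of `x`. -/
abbrev qm : M →ₗ[R] M ⧸ Submodule.span R ({x} : Set M) := Submodule.mkQ _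

theorem mkQ_self : (qm (R := R) x) x = 0 := (Submodule.Quotient.mk_eq_zero _).2 (Submodule.mem_span_singleton_self x)

theorem map_before (g : Adm R M (l + 1)) {i : Fin (l + 1)} {u : R} (hw : Wit x g i u) (j : Fin l) :
    (spanBefore R M g.1 (i.succAbove j)).map (qm (R := R) x) =
      spanBefore R (M ⧸ Submodule.span R ({x} : Set M)) ((qm (R := R) x) ∘ g.1 ∘ i.succAbove) j := by
  let T := spanBefore R (M ⧸ Submodule.span R ({x} : Set M)) ((qm (R := R) x) ∘ g.1 ∘ i.succAbove) j
  have hne : ∀ p : Fin (l + 1), p ≠ i → (p : ℕ) < i.succAbove j → (qm (R := R) x) (g.1 p) ∈ T := fun p hp hlt => by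
    obtain ⟨p', rfl⟩ := Fin.exists_succAbove_eq hp
    exact mem_before ((qm (R := R) x) ∘ g.1 ∘ i.succAbove) p'
      ((Fin.strictMono_succAbove i).lt_iff_lt.1 (Fin.lt_def.2 hlt))
  refine le_antisymm (Submodule.map_le_iff_le_comap.2 ((before_le_iff _ _ _).2 fun p hp => ?_))
    ((before_le_iff _ _ _).2 fun p hp => ?_)
  · show (qm (R := R) x) (g.1 p) ∈ T
    by_cases hpi : p = i
    · subst hpi
      have h1 : (spanBefore R M g.1 p).map (qm (R := R) x) ≤ T :=
        Submodule.map_le_iff_le_comap.2 ((before_le_iff _ _ _).2 fun p' hp' =>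
          hne p' (fun h => by rw [h] at hp'; omega) (lt_trans hp' hp))
      have h2 := h1 (Submodule.mem_map_of_mem hw.2)
      rw [map_sub, mkQ_self, zero_sub, map_smul] at h2
      exact (Submodule.smul_mem_iff_of_isUnit _ hw.1).1 ((Submodule.neg_mem_iff _).1 h2)
    · exact hne p hpi hp
  · exact Submodule.mem_map_of_mem (mem_before g.1 _ (Fin.lt_def.1 ((Fin.strictMono_succAbove i) (Fin.lt_def.2 hp))))

/-- The tuple left in the quotient. -/
def qt (g : Adm R M (l + 1)) (i : Fin (l + 1)) (u : R) (hw : Wit x g i u) :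
    Adm R (M ⧸ Submodule.span R ({x} : Set M)) l :=
  ⟨(qm (R := R) x) ∘ g.1 ∘ i.succAbove, fun p r hr => by
    rw [← map_before x g hw p, Function.comp_apply, Function.comp_apply, ← map_smul]
    exact Submodule.mem_map_of_mem (g.2 _ r hr)⟩

theorem wit_unique (hl : Module.length R M = (l + 1 : ℕ)) {g : Adm R M (l + 1)} (hg : Spans g) {i i' : Fin (l + 1)}
    {u u' : R} (h : Wit x g i u) (h' : Wit x g i' u') : i = i' ∧ residue R u = residue R u' := by
  have key : ∀ {i i' : Fin (l + 1)} {u u' : R}, Wit x g i u → Wit x g i' u' → ¬ i < i' := by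
    intro i i' u u' h h' hlt
    have h1 : x ∈ spanBefore R M g.1 (i + 1) := (before_succ_iff g.1 i x).2 ⟨u, h.2⟩
    have h2 := Submodule.sub_mem _ (before_mono g.1 (show (i : ℕ) + 1 ≤ i' from hlt) h1) h'.2
    rw [sub_sub_cancel] at h2
    exact not_spans_of_mem hl g ((Submodule.smul_mem_iff_of_isUnit _ h'.1).1 h2) hg
  obtain rfl : i = i' := le_antisymm (not_lt.1 (key h' h)) (not_lt.1 (key h h'))
  refine ⟨rfl, ?_⟩
  have h2 := Submodule.sub_mem _ h'.2 h.2
  rw [sub_sub_sub_cancel_left, ← sub_smul] at h2
  rw [← sub_eq_zero, ← map_sub, IsLocalRing.residue_eq_zero_iff, mem_maximalIdeal]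
  exact fun hu => not_spans_of_mem hl g ((Submodule.smul_mem_iff_of_isUnit _ hu).1 h2) hg

theorem exists_wit (hx : x ≠ 0) {g : Adm R M (l + 1)} (hg : Spans g) : ∃ p : Fin (l + 1) × R, Wit x g p.1 p.2 := by
  classical
  have hex : ∃ k : ℕ, x ∈ spanBefore R M g.1 k := ⟨l + 1, by rw [before_of_le g.1 le_rfl, hg]; trivial⟩
  have h0 : Nat.find hex ≠ 0 := fun h => by
    have := Nat.find_spec hex
    rw [h, before_zero] at this
    exact hx ((Submodule.mem_bot R).1 this)
  have hle : Nat.find hex ≤ l + 1 := Nat.find_min' hex (by rw [before_of_le g.1 le_rfl, hg]; trivial)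
  let i : Fin (l + 1) := ⟨Nat.find hex - 1, by omega⟩
  have hi : (i : ℕ) + 1 = Nat.find hex := by show Nat.find hex - 1 + 1 = _; omega
  obtain ⟨u, hu⟩ := (before_succ_iff g.1 i x).1 (by rw [hi]; exact Nat.find_spec hex)
  refine ⟨(i, u), ?_, hu⟩
  by_contra hu'
  have := Submodule.add_mem _ hu (smul_mem_of_not_isUnit g i hu')
  rw [sub_add_cancel] at this
  exact Nat.find_min hex (show (i : ℕ) < Nat.find hex by omega) this

open Classical in
/-- The functional one step up. -/
def up (ψ' : Adm R (M ⧸ Submodule.span R ({x} : Set M)) l → ResidueField R) (g : Adm R M (l + 1)) :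
    ResidueField R :=
  if h : Spans g ∧ ∃ p : Fin (l + 1) × R, Wit x g p.1 p.2 then
    (-1) ^ ((Classical.choose h.2).1 : ℕ) * (residue R (Classical.choose h.2).2)⁻¹ *
      ψ' (qt x g (Classical.choose h.2).1 (Classical.choose h.2).2 (Classical.choose_spec h.2))
  else 0

theorem up_eq (hl : Module.length R M = (l + 1 : ℕ))
    (ψ' : Adm R (M ⧸ Submodule.span R ({x} : Set M)) l → ResidueField R) {g : Adm R M (l + 1)} (hg : Spans g)
    {i : Fin (l + 1)} {u : R} (hw : Wit x g i u) :
    up x ψ' g = (-1) ^ (i : ℕ) * (residue R u)⁻¹ * ψ' (qt x g i u hw) := by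
  have h : Spans g ∧ ∃ p : Fin (l + 1) × R, Wit x g p.1 p.2 := ⟨hg, (i, u), hw⟩
  obtain ⟨h1, h2⟩ := wit_unique x hl hg (Classical.choose_spec h.2) hw
  rw [up, dif_pos h, h2, show qt x g _ _ (Classical.choose_spec h.2) = qt x g i u hw from
    Subtype.ext (show (qm (R := R) x) ∘ g.1 ∘ Fin.succAbove _ = (qm (R := R) x) ∘ g.1 ∘ i.succAbove by rw [h1]), h1]

theorem respects_up (hl : Module.length R M = (l + 1 : ℕ)) (hx : x ≠ 0)
    (ψ' : Adm R (M ⧸ Submodule.span R ({x} : Set M)) l → ResidueField R) (h' : Respects ψ') :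
    Respects (up x ψ') := by
  refine ⟨fun g hg => dif_neg fun h => hg h.1, fun g g' a c hch => ?_, fun g g' a b hsw => ?_⟩
  · by_cases hg : Spans g
    swap
    · rw [show up x ψ' g = 0 from dif_neg fun h => hg h.1,
        show up x ψ' g' = 0 from dif_neg fun h => hg ((Change.spans_iff hch).2 h.1), mul_zero]
    have hg' : Spans g' := (Change.spans_iff hch).1 hg
    obtain ⟨⟨i, u⟩, hw'⟩ := exists_wit x hx hg'
    by_cases hia : i = a
    · subst hia
      have hw : Wit x g i (u * (↑c⁻¹ : R)) := ⟨hw'.1.mul (c⁻¹).isUnit, by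
        have h1 := hw'.2
        rw [← hch.before_eq] at h1
        have h2 := Submodule.sub_mem _ h1 (Submodule.smul_mem _ (u * (↑c⁻¹ : R)) hch.2)
        rwa [smul_sub, smul_smul, mul_assoc, Units.inv_mul, mul_one, sub_sub_sub_cancel_right] at h2⟩
      rw [up_eq x hl ψ' hg hw, up_eq x hl ψ' hg' hw',
        show qt x g i _ hw = qt x g' i u hw' from
          Subtype.ext (funext fun p => congrArg (qm (R := R) x) (hch.1 _ (Fin.succAbove_ne i p))),
        map_mul, map_units_inv, mul_inv, inv_inv]
      ring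
    · have hw : Wit x g i u := ⟨hw'.1, by rw [hch.1 i hia, hch.before_eq]; exact hw'.2⟩
      obtain ⟨j, rfl⟩ := Fin.exists_succAbove_eq (Ne.symm hia)
      have hc' : Change (qt x g i u hw).1 (qt x g' i u hw').1 j c := by
        refine ⟨fun p hp => congrArg (qm (R := R) x) (hch.1 _ fun h => hp (Fin.succAbove_right_injective h)), ?_⟩
        show (qm (R := R) x) (g.1 _) - (c : R) • (qm (R := R) x) (g'.1 _) ∈ spanBefore R _ ((qm (R := R) x) ∘ g.1 ∘ i.succAbove) j
        rw [← map_before x g hw j, ← map_smul, ← map_sub]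
        exact Submodule.mem_map_of_mem hch.2
      rw [up_eq x hl ψ' hg hw, up_eq x hl ψ' hg' hw', h'.change _ _ j c hc']
      ring
  · by_cases hg : Spans g
    swap
    · rw [show up x ψ' g = 0 from dif_neg fun h => hg h.1,
        show up x ψ' g' = 0 from dif_neg fun h => hg ((Swap.spans_iff hsw).2 h.1), add_zero]
    have hg' : Spans g' := (Swap.spans_iff hsw).1 hg
    have hab := hsw.1
    have hS : ∀ k : ℕ, k ≠ a → spanBefore R M g'.1 k = spanBefore R M g.1 k := fun k hk => by
      rw [hsw.2.2]; exact before_comp_swap g.1 hab hk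
    have hga : g'.1 a = g.1 b := by rw [hsw.2.2, Function.comp_apply, Equiv.swap_apply_left]
    have hgb : g'.1 b = g.1 a := by rw [hsw.2.2, Function.comp_apply, Equiv.swap_apply_right]
    have hSb : spanBefore R M g.1 b ≤ spanBefore R M g'.1 a := by
      rw [← hS b (by omega)]; exact before_mono _ (by omega)
    obtain ⟨⟨i, u⟩, hw⟩ := exists_wit x hx hg
    by_cases hib : i = b
    · subst hib
      have hw' : Wit x g' a u := ⟨hw.1, by rw [hga]; exact hSb hw.2⟩
      rw [up_eq x hl ψ' hg hw, up_eq x hl ψ' hg' hw',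
        show qt x g' a u hw' = qt x g i u hw from Subtype.ext (funext fun p => congrArg (qm (R := R) x)
          (show g'.1 _ = g.1 _ by rw [hsw.2.2, Function.comp_apply, (swap_succAbove hab p).2])),
        ← hab, pow_succ]
      ring
    by_cases hia : i = a
    · subst hia
      have h1 := hw.2
      dsimp only at h1
      rw [← hab] at h1
      obtain ⟨r, hr⟩ := (before_succ_iff g.1 b _).1 h1
      by_cases hru : IsUnit r
      · have hw' : Wit x g' i r := ⟨hru, by
          rw [hga]
          have h2 := Submodule.add_mem _ (hSb hr)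
            (Submodule.smul_mem _ u (mem_before g'.1 b (show (b : ℕ) < i by omega)))
          rwa [hgb, show x - u • g.1 i - r • g.1 b + u • g.1 i = x - r • g.1 b by abel] at h2⟩
        obtain ⟨j, hj⟩ := Fin.exists_succAbove_eq (Ne.symm hib)
        have hj' : (Equiv.swap i b) (i.succAbove j) = i := by rw [hj, Equiv.swap_apply_right]
        let c : Rˣ := -(hw.1.unit * hru.unit⁻¹)
        have hc' : Change (qt x g i u hw).1 (qt x g' i r hw').1 j c := by
          refine ⟨fun p hp => congrArg (qm (R := R) x) ?_, ?_⟩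
          · show g.1 (i.succAbove p) = g'.1 (i.succAbove p)
            rw [hsw.2.2, Function.comp_apply, Equiv.swap_apply_of_ne_of_ne (Fin.succAbove_ne i p)
              (fun h => hp (Fin.succAbove_right_injective (h.trans hj.symm)))]
          · show (qm (R := R) x) (g.1 (i.succAbove j)) - (c : R) • (qm (R := R) x) (g'.1 (i.succAbove j)) ∈
              spanBefore R _ ((qm (R := R) x) ∘ g.1 ∘ i.succAbove) j
            rw [← map_before x g hw j, hj, hgb]
            have h2 := Submodule.mem_map_of_mem (f := (qm (R := R) x))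
              (Submodule.smul_mem _ (-(↑hru.unit⁻¹ : R)) hr)
            rw [show -(↑hru.unit⁻¹ : R) • (x - u • g.1 i - r • g.1 b) =
              g.1 b + ((↑hru.unit⁻¹ : R) * u) • g.1 i - (↑hru.unit⁻¹ : R) • x by
                rw [neg_smul, smul_sub, smul_sub, smul_smul, smul_smul, IsUnit.val_inv_mul, one_smul]
                abel, map_sub, map_add, map_smul, map_smul, mkQ_self, smul_zero, sub_zero] at h2
            rw [show (c : R) = -((↑hru.unit⁻¹ : R) * u) by simp [c, mul_comm], neg_smul, sub_neg_eq_add]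
            exact h2
        have hu0 : residue R u ≠ 0 := (hw.1.map _).ne_zero
        rw [up_eq x hl ψ' hg hw, up_eq x hl ψ' hg' hw', h'.change _ _ j c hc']
        simp only [c, Units.val_neg, Units.val_mul, IsUnit.unit_spec, map_neg, map_mul, map_units_inv]
        field_simp
        ring
      · have hw' : Wit x g' b u := ⟨hw.1, by
          rw [hgb, hS b (by omega)]
          have h2 := Submodule.add_mem _ hr (smul_mem_of_not_isUnit g b hru)
          rwa [sub_add_cancel] at h2⟩
        rw [up_eq x hl ψ' hg hw, up_eq x hl ψ' hg' hw',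
          show qt x g' b u hw' = qt x g i u hw from Subtype.ext (funext fun p => congrArg (qm (R := R) x)
            (show g'.1 _ = g.1 _ by rw [hsw.2.2, Function.comp_apply, (swap_succAbove hab p).1])),
          ← hab, pow_succ]
        ring
    · have hw' : Wit x g' i u := ⟨hw.1, by
        rw [hS i (fun h => hia (Fin.ext h)), hsw.2.2, Function.comp_apply, Equiv.swap_apply_of_ne_of_ne hia hib]
        exact hw.2⟩
      obtain ⟨ja, rfl⟩ := Fin.exists_succAbove_eq (Ne.symm hia)
      obtain ⟨jb, rfl⟩ := Fin.exists_succAbove_eq (Ne.symm hib)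
      have hsw' : Swap (R := R) (qt x g i u hw).1 (qt x g' i u hw').1 ja jb := by
        refine ⟨?_, fun r hr => ?_, funext fun p => congrArg (qm (R := R) x) ?_⟩
        · have h1 := succAbove_val i ja
          have h2 := succAbove_val i jb
          split_ifs at h1 h2 <;> omega
        · show r • (qm (R := R) x) (g.1 _) ∈ spanBefore R _ ((qm (R := R) x) ∘ g.1 ∘ i.succAbove) jb
          rw [← map_before x g hw jb, ← map_smul]
          exact Submodule.mem_map_of_mem (hsw.2.1 r hr)
        · show g'.1 (i.succAbove p) = g.1 (i.succAbove (Equiv.swap ja jb p))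
          rw [hsw.2.2, Function.comp_apply, (Fin.succAbove_right_injective (p := i)).swap_apply]
      rw [up_eq x hl ψ' hg hw, up_eq x hl ψ' hg' hw', ← mul_add, h'.swap _ _ ja jb hsw', mul_zero]

end Step

theorem exists_functional : ∀ (l : ℕ) {M : Type v} [AddCommGroup M] [Module R M] (_ : Module.length R M = l)
    (e : Adm R M l) (_ : Spans e), ∃ ψ : Adm R M l → ResidueField R, Respects ψ ∧ ψ e = 1
  | 0, M, _, _, hl, e, he => by
    classical
    refine ⟨fun g => if Spans g then 1 else 0, ⟨fun g hg => if_neg hg, fun g g' a => a.elim0, fun g g' a => a.elim0⟩,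
      if_pos he⟩
  | l + 1, M, _, _, hl, e, he => by
    let x := e.1 0
    let N := Submodule.span R ({x} : Set M)
    have hx : x ≠ 0 := fun h =>
      not_spans_of_mem hl e (a := 0) (by rw [show e.1 0 = 0 from h]; exact Submodule.zero_mem _) he
    have hN : Module.length R N = 1 := by
      have h := length_sup_singleton (⊥ : Submodule R M) x (fun h => hx ((Submodule.mem_bot R).1 h)) fun r hr => by
        have := e.2 0 r hr
        rwa [show ((0 : Fin (l + 1)) : ℕ) = 0 from rfl, before_zero] at this
      rwa [Module.length_bot, zero_add, bot_sup_eq] at h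
    have hQ : Module.length R (M ⧸ N) = l := by
      have h := Module.length_eq_add_of_exact N.subtype N.mkQ (Submodule.subtype_injective _)
        (Submodule.mkQ_surjective _) (LinearMap.exact_subtype_mkQ _)
      rw [hl, hN] at h
      cases hc : Module.length R (M ⧸ N) with
      | top => rw [hc] at h; simp at h
      | coe a => rw [hc] at h; norm_cast at h ⊢; omega
    have hw : Wit x e 0 1 := ⟨isUnit_one, by rw [one_smul, sub_self]; exact Submodule.zero_mem _⟩
    have hsp : Spans (qt x e 0 1 hw) := by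
      rw [Spans, eq_top_iff, ← (Submodule.range_mkQ N), LinearMap.range_eq_map, ← he, Submodule.map_span,
        Submodule.span_le]
      rintro _ ⟨_, ⟨p, rfl⟩, rfl⟩
      by_cases hp : p = 0
      · subst hp
        rw [show N.mkQ (e.1 0) = 0 from mkQ_self x]
        exact Submodule.zero_mem _
      · obtain ⟨p', rfl⟩ := Fin.exists_succAbove_eq hp
        exact Submodule.subset_span ⟨p', rfl⟩
    obtain ⟨ψ', hψ', hψe⟩ := exists_functional l hQ (qt x e 0 1 hw) hsp
    refine ⟨up x ψ', respects_up x hl hx ψ' hψ', ?_⟩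
    rw [up_eq x hl ψ' he hw, hψe, Fin.val_zero, pow_zero, map_one, inv_one, mul_one, mul_one]

/-- The functional on the space of symbols. -/
def Respects.lift {l : ℕ} (hl : Module.length R M = l) {ψ : Adm R M l → ResidueField R} (h : Respects ψ) :
    DetOfLen R M l →ₗ[ResidueField R] ResidueField R :=
  (Submodule.span (ResidueField R) (relSet R M l)).liftQ (Finsupp.linearCombination (ResidueField R) ψ) <| by
    refine Submodule.span_le.2 ?_
    rintro z ((⟨g, a, ha, rfl⟩ | ⟨g, g', a, c, hne, hd, rfl⟩) | ⟨g, g', a, b, hab, hm, he, rfl⟩)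
    · show Finsupp.linearCombination _ ψ (Finsupp.single g 1) = 0
      rw [Finsupp.linearCombination_single, one_smul, h.degen g (fun hs => not_spans_of_mem hl g ha hs)]
    · show Finsupp.linearCombination _ ψ (sym R M g - residue R (c : R) • sym R M g') = 0
      simp only [sym, map_sub, map_smul, Finsupp.linearCombination_single, smul_eq_mul,
        h.change g g' a c ⟨hne, hd⟩]
      ring
    · show Finsupp.linearCombination _ ψ (sym R M g + sym R M g') = 0
      simp only [sym, map_add, Finsupp.linearCombination_single, one_smul, h.swap g g' a b ⟨hab, hm, he⟩]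

theorem Respects.lift_mk {l : ℕ} (hl : Module.length R M = l) {ψ : Adm R M l → ResidueField R} (h : Respects ψ)
    (e : Adm R M l) : h.lift hl (Submodule.Quotient.mk (sym R M e)) = ψ e := by
  rw [Respects.lift, Submodule.liftQ_apply, sym, Finsupp.linearCombination_single, one_smul]

/-- The class of a tuple. -/
def cls {l : ℕ} (e : Adm R M l) : DetOfLen R M l := Submodule.Quotient.mk (sym R M e)

theorem cls_change {l : ℕ} {e e' : Adm R M l} {a : Fin l} {c : Rˣ} (h : Change e.1 e'.1 a c) :
    cls e = residue R (c : R) • cls e' := by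
  rw [cls, cls, ← Submodule.Quotient.mk_smul, Submodule.Quotient.eq]
  exact Submodule.subset_span (Or.inl (Or.inr ⟨e, e', a, c, h.1, h.2, rfl⟩))

theorem cls_swap {l : ℕ} {e e' : Adm R M l} {a b : Fin l} (h : Swap (R := R) e.1 e'.1 a b) : cls e + cls e' = 0 := by
  rw [cls, cls, ← Submodule.Quotient.mk_add, Submodule.Quotient.mk_eq_zero]
  exact Submodule.subset_span (Or.inr ⟨e, e', a, b, h.1, h.2.1, h.2.2, rfl⟩)

theorem cls_eq_zero {l : ℕ} (hl : Module.length R M = l) {e : Adm R M l} (h : ¬ Spans e) : cls e = 0 := by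
  rw [spans_iff_forall hl] at h
  push Not at h
  obtain ⟨a, ha⟩ := h
  exact (Submodule.Quotient.mk_eq_zero _).2 (Submodule.subset_span (Or.inl (Or.inl ⟨e, a, ha, rfl⟩)))

theorem cls_ne_zero {l : ℕ} (hl : Module.length R M = l) {e : Adm R M l} (h : Spans e) : cls e ≠ 0 := by
  obtain ⟨ψ, hψ, he⟩ := exists_functional l hl e h
  intro hc
  have := hψ.lift_mk hl e
  rw [show Submodule.Quotient.mk (sym R M e) = cls e from rfl, hc, map_zero, he] at this
  exact zero_ne_one this

theorem exists_smul_cls {l : ℕ} (hl : Module.length R M = l) {e : Adm R M l} (h : Spans e) (z : DetOfLen R M l) :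
    ∃ c : ResidueField R, z = c • cls e := by
  have key : ∀ e' : Adm R M l, ∃ c : ResidueField R, cls e' = c • cls e := fun e' => by
    by_cases he' : Spans e'
    · refine connect hl Set.univ (fun a b => ∃ c : ResidueField R, cls a = c • cls b) (fun a => ⟨1, (one_smul _ _).symm⟩)
        (fun a b c ⟨s, hs⟩ ⟨t, ht⟩ => ⟨s * t, by rw [hs, ht, smul_smul]⟩)
        (fun a b p c _ _ _ _ hc => ⟨_, cls_change hc⟩)
        (fun a b p p' _ _ _ _ hc => ⟨-1, by rw [neg_one_smul]; exact eq_neg_of_add_eq_zero_left (cls_swap hc)⟩)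
        e' e he' h (fun _ => trivial) (fun _ => trivial)
    · exact ⟨0, by rw [cls_eq_zero hl he', zero_smul]⟩
  obtain ⟨w, rfl⟩ := Submodule.Quotient.mk_surjective _ z
  induction w using Finsupp.induction_linear with
  | zero => exact ⟨0, by rw [zero_smul]; rfl⟩
  | add a b ha hb =>
    obtain ⟨s, hs⟩ := ha
    obtain ⟨t, ht⟩ := hb
    exact ⟨s + t, by rw [Submodule.Quotient.mk_add, hs, ht, add_smul]⟩
  | single e' r =>
    obtain ⟨c, hc⟩ := key e'
    refine ⟨r * c, ?_⟩
    rw [← smul_smul, ← hc, cls, ← Submodule.Quotient.mk_smul, sym, Finsupp.smul_single, smul_eq_mul, mul_one]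

theorem rank_le_one {l : ℕ} (hl : Module.length R M = l) : Module.rank (ResidueField R) (DetOfLen R M l) ≤ 1 := by
  rw [rank_le_one_iff]
  by_cases h : ∃ e : Adm R M l, Spans e
  · obtain ⟨e, he⟩ := h
    exact ⟨cls e, fun z => let ⟨c, hc⟩ := exists_smul_cls hl he z; ⟨c, hc.symm⟩⟩
  · refine ⟨0, fun z => ⟨0, ?_⟩⟩
    obtain ⟨w, rfl⟩ := Submodule.Quotient.mk_surjective _ z
    rw [smul_zero]
    induction w using Finsupp.induction_linear with
    | zero => rfl
    | add a b ha hb => rw [Submodule.Quotient.mk_add, ← ha, ← hb, add_zero]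
    | single e' r =>
      rw [show (Finsupp.single e' r : Free R M l) = r • sym R M e' by
        rw [sym, Finsupp.smul_single, smul_eq_mul, mul_one], Submodule.Quotient.mk_smul]
      rw [show Submodule.Quotient.mk (sym R M e') = cls e' from rfl, cls_eq_zero hl fun hs => h ⟨e', hs⟩, smul_zero]

end Groth.Agent.CycDetLib
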