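import Groth.Agent.CycDetLib.Functional

/-!
Concatenation of tuples along a short exact sequence, and the resulting map of symbol spaces.
-/

set_option autoImplicit false
set_option linter.style.haveILetI false
set_option linter.unusedSectionVars false

universe u v w

open IsLocalRing

noncomputable section

namespace Groth.Agent.CycDetLib

open CycDet

variable {R : Type u} [CommRing R] [IsLocalRing R]

/-- A linear map out of the symbols. -/
theorem exists_lift {M : Type v} [AddCommGroup M] [Module R M] {l : ℕ} (hl : Module.length R M = l) {V : Type w}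
    [AddCommGroup V] [Module (ResidueField R) V] (φ : Adm R M l → V) (h0 : ∀ e, ¬ Spans e → φ e = 0)
    (h1 : ∀ (e e' : Adm R M l) (a : Fin l) (c : Rˣ), Spans e → Spans e' → Change e.1 e'.1 a c →
      φ e = residue R (c : R) • φ e')
    (h2 : ∀ (e e' : Adm R M l) (a b : Fin l), Spans e → Spans e' → Swap (R := R) e.1 e'.1 a b → φ e + φ e' = 0) :
    ∃ F : DetOfLen R M l →ₗ[ResidueField R] V, ∀ e, F (cls e) = φ e := by
  refine ⟨(Submodule.span (ResidueField R) (relSet R M l)).liftQ (Finsupp.linearCombination (ResidueField R) φ) ?_,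
    fun e => ?_⟩
  · refine Submodule.span_le.2 ?_
    rintro z ((⟨g, a, ha, rfl⟩ | ⟨g, g', a, c, hne, hd, rfl⟩) | ⟨g, g', a, b, hab, hm, he, rfl⟩)
    · show Finsupp.linearCombination _ φ (Finsupp.single g 1) = 0
      rw [Finsupp.linearCombination_single, one_smul, h0 g (fun hs => not_spans_of_mem hl g ha hs)]
    · show Finsupp.linearCombination _ φ (sym R M g - residue R (c : R) • sym R M g') = 0
      simp only [sym, map_sub, map_smul, Finsupp.linearCombination_single, one_smul]
      by_cases hs : Spans g
      · rw [h1 g g' a c hs ((Change.spans_iff (c := c) ⟨hne, hd⟩).1 hs) ⟨hne, hd⟩, sub_self]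
      · rw [h0 g hs, h0 g' (fun hs' => hs ((Change.spans_iff (c := c) ⟨hne, hd⟩).2 hs')), smul_zero, sub_self]
    · show Finsupp.linearCombination _ φ (sym R M g + sym R M g') = 0
      simp only [sym, map_add, Finsupp.linearCombination_single, one_smul]
      by_cases hs : Spans g
      · exact h2 g g' a b hs ((Swap.spans_iff ⟨hab, hm, he⟩).1 hs) ⟨hab, hm, he⟩
      · rw [h0 g hs, h0 g' (fun hs' => hs ((Swap.spans_iff ⟨hab, hm, he⟩).2 hs')), add_zero]
  · rw [cls, Submodule.liftQ_apply, sym, Finsupp.linearCombination_single, one_smul]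

variable {M : Type v} [AddCommGroup M] [Module R M]

theorem cls_eq_of_sub_mem {l : ℕ} (e e' : Adm R M l) (h : ∀ p : Fin l, e.1 p - e'.1 p ∈ spanBefore R M e.1 p) :
    cls e = cls e' := by
  let hy : ℕ → Fin l → M := fun k p => if (p : ℕ) < k then e'.1 p else e.1 p
  suffices H : ∀ k, k ≤ l → ∃ hadm : IsAdmissible R M (hy k),
      (∀ k', spanBefore R M (hy k) k' = spanBefore R M e.1 k') ∧ cls ⟨hy k, hadm⟩ = cls e by
    obtain ⟨hadm, -, hc⟩ := H l le_rfl
    rw [← hc]
    exact congrArg cls (Subtype.ext (funext fun p => if_pos p.2))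
  intro k
  induction k with
  | zero =>
    intro _
    have he : hy 0 = e.1 := funext fun p => if_neg (Nat.not_lt_zero _)
    exact ⟨by rw [he]; exact e.2, fun _ => by rw [he], congrArg cls (Subtype.ext he)⟩
  | succ k ih =>
    intro hk
    obtain ⟨hadm, hS, hc⟩ := ih (by omega)
    let a : Fin l := ⟨k, by omega⟩
    have hch : Change (R := R) (hy k) (hy (k + 1)) a 1 := by
      refine ⟨fun p hp => ?_, ?_⟩
      · have hpk : (p : ℕ) ≠ k := fun hh => hp (Fin.ext hh)
        show (if _ then _ else _) = if _ then _ else _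
        by_cases h1 : (p : ℕ) < k
        · rw [if_pos h1, if_pos (by omega)]
        · rw [if_neg h1, if_neg (by omega)]
      · rw [hS, Units.val_one, one_smul,
          show hy k a = e.1 a from if_neg (lt_irrefl k), show hy (k + 1) a = e'.1 a from if_pos (Nat.lt_succ_self k)]
        exact h a
    have hS' : ∀ k', spanBefore R M (hy (k + 1)) k' = spanBefore R M e.1 k' := fun k' =>
      (hch.before_eq k').symm.trans (hS k')
    have hadm' : IsAdmissible R M (hy (k + 1)) := fun p r hr => by
      rw [hS' p]
      show r • (if _ then _ else _) ∈ _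
      split_ifs
      · have h2 := Submodule.sub_mem _ (e.2 p r hr) (Submodule.smul_mem _ r (h p))
        rwa [smul_sub, sub_sub_cancel] at h2
      · exact e.2 p r hr
    refine ⟨hadm', hS', ?_⟩
    rw [← hc, cls_change (e := ⟨hy k, hadm⟩) (e' := ⟨hy (k + 1), hadm'⟩) hch, Units.val_one, map_one, one_smul]

/-- A spanning admissible tuple exists. -/
theorem exists_spans {l : ℕ} (hl : Module.length R M = l) : ∃ e : Adm R M l, Spans e := by
  have hfl : IsFiniteLength R M := Module.length_ne_top_iff.1 (by rw [hl]; exact ENat.natCast_ne_top l)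
  obtain ⟨_, _⟩ := isFiniteLength_iff_isNoetherian_isArtinian.1 hfl
  suffices H : ∀ k, k ≤ l → ∃ e : Adm R M k, Module.length R (Submodule.span R (Set.range e.1)) = k by
    obtain ⟨e, he⟩ := H l le_rfl
    refine ⟨e, ?_⟩
    by_contra hne
    exact (Submodule.length_lt hne).ne (he.trans hl.symm)
  intro k
  induction k with
  | zero =>
    intro _
    refine ⟨⟨fun p => p.elim0, fun p => p.elim0⟩, ?_⟩
    rw [show Set.range (fun p : Fin 0 => (p.elim0 : M)) = ∅ from Set.range_eq_empty _, Submodule.span_empty,
      Module.length_bot]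
    rfl
  | succ k ih =>
    intro hk
    obtain ⟨e, he⟩ := ih (by omega)
    let S := Submodule.span R (Set.range e.1)
    have hS : S ≠ ⊤ := fun h => by
      change Module.length R S = (k : ℕ∞) at he
      rw [h, Module.length_top, hl] at he
      have : l = k := by exact_mod_cast he
      omega
    haveI : Nontrivial (M ⧸ S) := Submodule.Quotient.nontrivial_iff.2 hS
    obtain ⟨A, hA, -⟩ := (IsAtomic.eq_bot_or_exists_atom_le (⊤ : Submodule R (M ⧸ S))).resolve_left
      (by exact top_ne_bot)
    obtain ⟨z, hz, hz0⟩ := A.ne_bot_iff.1 hA.1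
    obtain ⟨x, rfl⟩ := S.mkQ_surjective z
    have hx : x ∉ S := fun h => hz0 ((Submodule.Quotient.mk_eq_zero _).2 h)
    have hm : ∀ r ∈ maximalIdeal R, r • x ∈ S := fun r hr => by
      rw [← Submodule.Quotient.mk_eq_zero S]
      show S.mkQ (r • x) = 0
      by_contra hne
      have hle : Submodule.span R {S.mkQ (r • x)} = A := (hA.le_iff.1 (Submodule.span_le.2
        (Set.singleton_subset_iff.2 (by rw [map_smul]; exact A.smul_mem r hz)))).resolve_left
        (by rwa [Submodule.span_singleton_eq_bot])
      rw [← hle] at hz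
      obtain ⟨s, hs⟩ := Submodule.mem_span_singleton.1 hz
      rw [map_smul, smul_smul] at hs
      have hu : IsUnit (s * r - 1) := by
        by_contra hu
        have h3 := Ideal.sub_mem _ ((maximalIdeal R).mul_mem_left s hr) ((mem_maximalIdeal _).2 hu)
        rw [sub_sub_cancel] at h3
        exact (maximalIdeal R).ne_top_iff_one.1 (IsLocalRing.maximalIdeal.isMaximal R).ne_top h3
      exact hz0 (hu.smul_left_cancel.1 (by rw [sub_smul, one_smul, hs, sub_self, smul_zero]))
    let e' : Fin (k + 1) → M := Fin.snoc e.1 x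
    have hcs : ∀ p : Fin k, e' p.castSucc = e.1 p := fun p => Fin.snoc_castSucc (α := fun _ => M) x e.1 p
    have hlast : e' (Fin.last k) = x := Fin.snoc_last (α := fun _ => M) x e.1
    have hb : ∀ j, j ≤ k → spanBefore R M e' j = spanBefore R M e.1 j := fun j hj => by
      refine le_antisymm ((before_le_iff e' j _).2 fun p hp => ?_) ((before_le_iff e.1 j _).2 fun p hp => ?_)
      · obtain ⟨p', rfl⟩ : ∃ p' : Fin k, p'.castSucc = p := ⟨⟨p, by omega⟩, rfl⟩
        rw [hcs]
        exact mem_before e.1 p' hp
      · rw [← hcs p]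
        exact mem_before e' p.castSucc hp
    have hbk : spanBefore R M e' k = S := (hb k le_rfl).trans (before_of_le e.1 le_rfl)
    have hadm : IsAdmissible R M e' := fun p r hr => by
      induction p using Fin.lastCases with
      | last =>
        rw [hlast, show ((Fin.last k : Fin (k + 1)) : ℕ) = k from rfl, hbk]
        exact hm r hr
      | cast p =>
        rw [hcs, show ((p.castSucc : Fin (k + 1)) : ℕ) = p from rfl, hb p (by omega)]
        exact e.2 p r hr
    refine ⟨⟨e', hadm⟩, ?_⟩
    rw [← before_of_le (R := R) e' le_rfl, show spanBefore R M e' (k + 1) = _ from before_succ e' (Fin.last k),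
      show ((Fin.last k : Fin (k + 1)) : ℕ) = k from rfl, hbk, hlast, length_sup_singleton S x hx hm, he]
    push_cast
    rfl

/-- The line of symbols. -/
def detLine {l : ℕ} (hl : Module.length R M = l) {e : Adm R M l} (he : Spans e) :
    ResidueField R ≃ₗ[ResidueField R] DetOfLen R M l :=
  LinearEquiv.ofBijective (LinearMap.toSpanSingleton _ _ (cls e))
    ⟨fun _ _ h => smul_left_injective _ (cls_ne_zero hl he) h,
      fun z => let ⟨c, hc⟩ := exists_smul_cls hl he z; ⟨c, hc.symm⟩⟩

variable {K L : Type v} [AddCommGroup K] [Module R K] [AddCommGroup L] [Module R L]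
  (f : K →ₗ[R] L) (g : L →ₗ[R] M) (hg : Function.Surjective g) (hfg : LinearMap.range f = LinearMap.ker g)
  {a b c : ℕ} (hc : a + b = c)

/-- Concatenation. -/
def cat (e : Fin a → K) (v : Fin b → L) : Fin c → L := fun p => Fin.append (f ∘ e) v (Fin.cast hc.symm p)

theorem cat_left (e : Fin a → K) (v : Fin b → L) (p : Fin a) :
    cat f hc e v (Fin.cast hc (Fin.castAdd b p)) = f (e p) :=
  Fin.append_left (f ∘ e) v p

theorem cat_right (e : Fin a → K) (v : Fin b → L) (p : Fin b) :
    cat f hc e v (Fin.cast hc (Fin.natAdd a p)) = v p :=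
  Fin.append_right (f ∘ e) v p

theorem cat_cases {motive : Fin c → Prop} (p : Fin c) (hl : ∀ i : Fin a, motive (Fin.cast hc (Fin.castAdd b i)))
    (hr : ∀ j : Fin b, motive (Fin.cast hc (Fin.natAdd a j))) : motive p := by
  obtain ⟨q, rfl⟩ : ∃ q, Fin.cast hc q = p := ⟨Fin.cast hc.symm p, by simp⟩
  exact Fin.addCases hl hr q

theorem cat_before_left (e : Fin a → K) (v : Fin b → L) {k : ℕ} (hk : k ≤ a) :
    spanBefore R L (cat f hc e v) k = (spanBefore R K e k).map f := by
  refine le_antisymm ((before_le_iff _ _ _).2 fun p hp => ?_)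
    (Submodule.map_le_iff_le_comap.2 ((before_le_iff _ _ _).2 fun p hp => ?_))
  · induction p using cat_cases hc with
    | hl i => rw [cat_left]; exact Submodule.mem_map_of_mem (mem_before e i hp)
    | hr j => exact absurd hp (by simp; omega)
  · rw [Submodule.mem_comap]
    rw [← cat_left f hc e v p]
    exact mem_before (cat f hc e v) _ hp

include hfg in
theorem cat_before_right (e : Adm R K a) (he : Spans e) (v : Fin b → L) (j : ℕ) :
    spanBefore R L (cat f hc e.1 v) (a + j) = (spanBefore R M (g ∘ v) j).comap g := by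
  have hrange : LinearMap.range f ≤ spanBefore R L (cat f hc e.1 v) (a + j) := by
    refine le_trans (le_of_eq ?_) (before_mono _ (Nat.le_add_right a j))
    rw [cat_before_left f hc e.1 v le_rfl, before_of_le e.1 le_rfl, he, Submodule.map_top]
  refine le_antisymm ((before_le_iff _ _ _).2 fun p hp => ?_) fun y hy => ?_
  · induction p using cat_cases hc with
    | hl i =>
      rw [cat_left, Submodule.mem_comap, show g (f (e.1 i)) = 0 from
        (LinearMap.mem_ker.1 (hfg.le ⟨e.1 i, rfl⟩))]
      exact Submodule.zero_mem _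
    | hr i =>
      rw [cat_right]
      exact mem_before (g ∘ v) i (by simpa using hp)
  · have hle : spanBefore R M (g ∘ v) j ≤ (spanBefore R L (cat f hc e.1 v) (a + j)).map g :=
      (before_le_iff _ _ _).2 fun i hi => ⟨cat f hc e.1 v (Fin.cast hc (Fin.natAdd a i)),
        mem_before _ _ (by simpa using hi), by rw [cat_right]; rfl⟩
    obtain ⟨y', hy', hgy⟩ := hle hy
    have : y - y' ∈ LinearMap.range f := hfg ▸ LinearMap.mem_ker.2 (by rw [map_sub, hgy, sub_self])
    have h := Submodule.add_mem _ (hrange this) hy'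
    rwa [sub_add_cancel] at h

include hfg in
theorem cat_isAdmissible (e : Adm R K a) (he : Spans e) (v : Fin b → L) (hv : IsAdmissible R M (g ∘ v)) :
    IsAdmissible R L (cat f hc e.1 v) := fun p r hr => by
  induction p using cat_cases hc with
  | hl i =>
    rw [cat_left, ← map_smul, show ((Fin.cast hc (Fin.castAdd b i) : Fin c) : ℕ) = i from rfl,
      cat_before_left f hc e.1 v i.2.le]
    exact Submodule.mem_map_of_mem (e.2 i r hr)
  | hr j =>
    rw [cat_right, show ((Fin.cast hc (Fin.natAdd a j) : Fin c) : ℕ) = a + j from rfl,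
      cat_before_right f g hfg hc e he v, Submodule.mem_comap, map_smul]
    exact hv j r hr

include hfg in
theorem not_spans_of_right (e : Adm R K a) {v : Fin b → L} {eL : Adm R L c} (hL : eL.1 = cat f hc e.1 v)
    (hg' : Function.Surjective g) (eM : Adm R M b) (hv : g ∘ v = eM.1) (h : ¬ Spans eM) : ¬ Spans eL := fun hs => by
  refine h (eq_top_iff.2 fun m _ => ?_)
  obtain ⟨y, rfl⟩ := hg' m
  have hy : y ∈ Submodule.span R (Set.range eL.1) := hs ▸ Submodule.mem_top
  have hle : Submodule.span R (Set.range eL.1) ≤ (Submodule.span R (Set.range eM.1)).comap g := by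
    rw [Submodule.span_le]
    rintro _ ⟨p, rfl⟩
    rw [hL]
    induction p using cat_cases hc with
    | hl i =>
      rw [cat_left, SetLike.mem_coe, Submodule.mem_comap, show g (f (e.1 i)) = 0 from
        (LinearMap.mem_ker.1 (hfg.le ⟨e.1 i, rfl⟩))]
      exact Submodule.zero_mem _
    | hr i => rw [cat_right]; exact Submodule.subset_span ⟨i, (congrFun hv i).symm⟩
  exact hle hy

include hg hfg in
/-- The symbol of a concatenation is bilinear in the symbols. -/
theorem exists_glue (hlK : Module.length R K = a) (hlM : Module.length R M = b) (hlL : Module.length R L = c) :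
    ∃ γ : TensorProduct (ResidueField R) (DetOfLen R K a) (DetOfLen R M b) ≃ₗ[ResidueField R] DetOfLen R L c,
      ∀ (eK : Adm R K a) (eM : Adm R M b) (eL : Adm R L c), Spans eK →
        (∀ i : Fin a, eL.1 (Fin.cast hc (Fin.castAdd b i)) = f (eK.1 i)) →
        (∀ j : Fin b, g (eL.1 (Fin.cast hc (Fin.natAdd a j))) = eM.1 j) →
        γ (cls eK ⊗ₜ cls eM) = cls eL := by
  classical
  let s : M → L := Function.surjInv hg
  have hs : ∀ w : Fin b → M, g ∘ (s ∘ w) = w := fun w => funext fun j => Function.surjInv_eq hg _
  let mk : ∀ (e : Adm R K a) (_ : Spans e) (w : Adm R M b), Adm R L c := fun e he w =>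
    ⟨cat f hc e.1 (s ∘ w.1), cat_isAdmissible f g hfg hc e he _ (by rw [hs]; exact w.2)⟩
  have hindep : ∀ (e : Adm R K a) (he : Spans e) (w : Adm R M b) (v : Fin b → L) (eL : Adm R L c),
      eL.1 = cat f hc e.1 v → g ∘ v = w.1 → cls eL = cls (mk e he w) := by
    intro e he w v eL hL hv
    refine cls_eq_of_sub_mem eL (mk e he w) fun (p : Fin c) => ?_
    rw [hL]
    induction p using cat_cases hc with
    | hl i =>
      show cat f hc e.1 v _ - cat f hc e.1 (s ∘ w.1) _ ∈ _
      rw [cat_left, cat_left, sub_self]
      exact Submodule.zero_mem _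
    | hr j =>
      show cat f hc e.1 v _ - cat f hc e.1 (s ∘ w.1) _ ∈ _
      rw [cat_right, cat_right, show ((Fin.cast hc (Fin.natAdd a j) : Fin c) : ℕ) = a + j from rfl,
        cat_before_right f g hfg hc e he v, Submodule.mem_comap, map_sub,
        show g (v j) = w.1 j from congrFun hv j, show g ((s ∘ w.1) j) = w.1 j from congrFun (hs w.1) j, sub_self]
      exact Submodule.zero_mem _
  have hM : ∀ (e : Adm R K a) (he : Spans e), ∃ F : DetOfLen R M b →ₗ[ResidueField R] DetOfLen R L c,
      ∀ w, F (cls w) = cls (mk e he w) := by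
    intro e he
    refine exists_lift hlM _ (fun w hw => cls_eq_zero hlL (not_spans_of_right f g hfg hc e rfl hg w (hs _) hw))
      (fun w w' i r _ _ hch => ?_) fun w w' i i' _ _ hsw => ?_
    · refine cls_change (a := Fin.cast hc (Fin.natAdd a i)) ⟨fun p hp => ?_, ?_⟩
      · induction p using cat_cases hc with
        | hl j => show cat f hc _ _ _ = cat f hc _ _ _; rw [cat_left, cat_left]
        | hr j =>
          show cat f hc _ _ _ = cat f hc _ _ _
          rw [cat_right, cat_right]
          exact congrArg s (hch.1 j fun hji => hp (by rw [hji]))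
      · show cat f hc e.1 (s ∘ w.1) _ - (r : R) • cat f hc e.1 (s ∘ w'.1) _ ∈
          spanBefore R L (cat f hc e.1 (s ∘ w.1)) _
        rw [cat_right, cat_right, show ((Fin.cast hc (Fin.natAdd a i) : Fin c) : ℕ) = a + i from rfl,
          cat_before_right f g hfg hc e he, Submodule.mem_comap, map_sub, map_smul, hs,
          show g ((s ∘ w.1) i) = w.1 i from congrFun (hs w.1) i, show g ((s ∘ w'.1) i) = w'.1 i from congrFun (hs w'.1) i]
        exact hch.2
    · refine cls_swap (a := Fin.cast hc (Fin.natAdd a i)) (b := Fin.cast hc (Fin.natAdd a i')) ⟨?_, fun t ht => ?_, ?_⟩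
      · have h := hsw.1
        show a + (i' : ℕ) + 1 = a + i
        omega
      · show t • cat f hc e.1 (s ∘ w.1) _ ∈ spanBefore R L (cat f hc e.1 (s ∘ w.1)) _
        rw [cat_right, show ((Fin.cast hc (Fin.natAdd a i') : Fin c) : ℕ) = a + i' from rfl,
          cat_before_right f g hfg hc e he, Submodule.mem_comap, map_smul, hs,
          show g ((s ∘ w.1) i) = w.1 i from congrFun (hs w.1) i]
        exact hsw.2.1 t ht
      · funext p
        show cat f hc e.1 (s ∘ w'.1) p = cat f hc e.1 (s ∘ w.1) (Equiv.swap _ _ p)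
        induction p using cat_cases hc with
        | hl j =>
          rw [Equiv.swap_apply_of_ne_of_ne (fun h => by have h' := congrArg Fin.val h; simp at h'; omega)
            (fun h => by have h' := congrArg Fin.val h; simp at h'; omega), cat_left, cat_left]
        | hr j =>
          have hinj : Function.Injective (fun j : Fin b => Fin.cast hc (Fin.natAdd a j)) := fun x y h =>
            Fin.ext (by have h' := congrArg Fin.val h; simp at h'; omega)
          rw [hinj.swap_apply, cat_right, cat_right, hsw.2.2]
          rfl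
  have hK : ∀ w : Adm R M b, ∃ F : DetOfLen R K a →ₗ[ResidueField R] DetOfLen R L c,
      ∀ (e : Adm R K a) (he : Spans e), F (cls e) = cls (mk e he w) := by
    intro w
    let φ : Adm R K a → DetOfLen R L c := fun e => if he : Spans e then cls (mk e he w) else 0
    obtain ⟨F, hF⟩ := exists_lift hlK φ (fun e he => dif_neg he) (fun e e' i r he he' hch => by
      simp only [φ, dif_pos he, dif_pos he']
      refine cls_change (a := Fin.cast hc (Fin.castAdd b i)) ⟨fun p hp => ?_, ?_⟩
      · induction p using cat_cases hc with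
        | hl j =>
          show cat f hc _ _ _ = cat f hc _ _ _
          rw [cat_left, cat_left, hch.1 j fun hji => hp (by rw [hji])]
        | hr j => show cat f hc _ _ _ = cat f hc _ _ _; rw [cat_right, cat_right]
      · show cat f hc e.1 (s ∘ w.1) _ - (r : R) • cat f hc e'.1 (s ∘ w.1) _ ∈
          spanBefore R L (cat f hc e.1 (s ∘ w.1)) _
        rw [cat_left, cat_left, show ((Fin.cast hc (Fin.castAdd b i) : Fin c) : ℕ) = i from rfl,
          cat_before_left f hc e.1 _ i.2.le, ← map_smul, ← map_sub]
        exact Submodule.mem_map_of_mem hch.2) (fun e e' i i' he he' hsw => by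
      simp only [φ, dif_pos he, dif_pos he']
      refine cls_swap (a := Fin.cast hc (Fin.castAdd b i)) (b := Fin.cast hc (Fin.castAdd b i')) ⟨hsw.1, fun t ht => ?_, ?_⟩
      · show t • cat f hc e.1 (s ∘ w.1) _ ∈ spanBefore R L (cat f hc e.1 (s ∘ w.1)) _
        rw [cat_left, show ((Fin.cast hc (Fin.castAdd b i') : Fin c) : ℕ) = i' from rfl,
          cat_before_left f hc e.1 _ i'.2.le, ← map_smul]
        exact Submodule.mem_map_of_mem (hsw.2.1 t ht)
      · funext p
        show cat f hc e'.1 (s ∘ w.1) p = cat f hc e.1 (s ∘ w.1) (Equiv.swap _ _ p)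
        induction p using cat_cases hc with
        | hl j =>
          have hinj : Function.Injective (fun j : Fin a => Fin.cast hc (Fin.castAdd b j)) := fun x y h =>
            Fin.ext (by have h' := congrArg Fin.val h; simpa using h')
          rw [hinj.swap_apply, cat_left, cat_left, hsw.2.2]
          rfl
        | hr j =>
          rw [Equiv.swap_apply_of_ne_of_ne (fun h => by have h' := congrArg Fin.val h; simp at h'; omega)
            (fun h => by have h' := congrArg Fin.val h; simp at h'; omega), cat_right, cat_right])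
    exact ⟨F, fun e he => (hF e).trans (dif_pos he)⟩
  obtain ⟨bK, hbK⟩ := exists_spans hlK
  obtain ⟨bM, hbM⟩ := exists_spans hlM
  have hbL : Spans (mk bK hbK bM) := by
    refine eq_top_iff.2 fun y _ => ?_
    rw [← before_of_le (R := R) (mk bK hbK bM).1 (k := a + b) (by omega),
      show (mk bK hbK bM).1 = cat f hc bK.1 (s ∘ bM.1) from rfl, cat_before_right f g hfg hc bK hbK,
      Submodule.mem_comap, hs, before_of_le _ le_rfl, hbM]
    trivial
  let γ := (TensorProduct.congr (detLine hlK hbK).symm (detLine hlM hbM).symm).trans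
    ((TensorProduct.lid (ResidueField R) (ResidueField R)).trans (detLine hlL hbL))
  refine ⟨γ, fun eK eM eL heK h1 h2 => ?_⟩
  obtain ⟨cK, hcK⟩ := exists_smul_cls hlK hbK (cls eK)
  obtain ⟨cM, hcM⟩ := exists_smul_cls hlM hbM (cls eM)
  have hL : eL.1 = cat f hc eK.1 (fun j => eL.1 (Fin.cast hc (Fin.natAdd a j))) := funext fun p => by
    induction p using cat_cases hc with
    | hl i => rw [cat_left, h1]
    | hr j => rw [cat_right]
  rw [hindep eK heK eM _ eL hL (funext h2)]
  obtain ⟨FM, hFM⟩ := hM eK heK
  obtain ⟨FK, hFK⟩ := hK bM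
  rw [← hFM, hcM, map_smul, hFM, ← hFK eK heK, hcK, map_smul, hFK bK hbK]
  have hb : ∀ {N : Type v} [AddCommGroup N] [Module R N] {n : ℕ} (hn : Module.length R N = n) {e : Adm R N n}
      (he : Spans e) (t : ResidueField R), (detLine hn he).symm (t • cls e) = t := fun hn e he t =>
    (LinearEquiv.symm_apply_eq _).2 rfl
  show (detLine hlL hbL) (TensorProduct.lid _ _
    ((detLine hlK hbK).symm (cK • cls bK) ⊗ₜ[ResidueField R] (detLine hlM hbM).symm (cM • cls bM))) = _
  rw [hb, hb, TensorProduct.lid_tmul]
  show (cK • cM) • cls (mk bK hbK bM) = _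
  rw [smul_eq_mul, mul_comm, mul_smul]

end Groth.Agent.CycDetLib
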