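import Groth.Agent.CycDetLib.Filt
import Groth.Agent.C1Cap.Basic
import Groth.Agent.CycDim.Norm

/-!
The index of a tuple in a lattice, against the determinant.
-/

set_option autoImplicit false
set_option linter.style.haveILetI false
set_option linter.unusedSectionVars false

universe u v

open IsLocalRing

noncomputable section

namespace Groth.Agent.CycDetLib

open CycDet

section QLen

variable {R : Type u} [CommRing R] {V : Type u} [AddCommGroup V] [Module R V]

/-- The length of `Q/P`. -/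
def qlen (P Q : Submodule R V) : ℕ∞ := Module.length R (↥Q ⧸ P.submoduleOf Q)

theorem qlen_self (P : Submodule R V) : qlen P P = 0 := by
  haveI : Subsingleton (↥P ⧸ P.submoduleOf P) := Submodule.Quotient.subsingleton_iff.2 (Submodule.submoduleOf_self P)
  exact Module.length_eq_zero

theorem qlen_add {P Q W : Submodule R V} (h1 : P ≤ Q) (h2 : Q ≤ W) : qlen P W = qlen P Q + qlen Q W := by
  let a : (↥Q ⧸ P.submoduleOf Q) →ₗ[R] ↥W ⧸ P.submoduleOf W :=
    Submodule.mapQ _ _ (Submodule.inclusion h2) fun x hx => hx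
  let b : (↥W ⧸ P.submoduleOf W) →ₗ[R] ↥W ⧸ Q.submoduleOf W := Submodule.factor fun x hx => h1 hx
  refine Module.length_eq_add_of_exact a b ?_ ?_ ?_
  · rw [injective_iff_map_eq_zero]
    intro z hz
    obtain ⟨z, rfl⟩ := Submodule.Quotient.mk_surjective _ z
    exact (Submodule.Quotient.mk_eq_zero _).2 ((Submodule.Quotient.mk_eq_zero _).1 hz :)
  · intro z
    obtain ⟨z, rfl⟩ := Submodule.Quotient.mk_surjective _ z
    exact ⟨Submodule.Quotient.mk z, rfl⟩
  · intro z
    obtain ⟨w, rfl⟩ := Submodule.Quotient.mk_surjective _ z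
    constructor
    · intro hw
      have hw' : (w : V) ∈ Q := (Submodule.Quotient.mk_eq_zero (Q.submoduleOf W) (x := w)).1 hw
      exact ⟨Submodule.Quotient.mk ⟨w, hw'⟩, rfl⟩
    · rintro ⟨x, hx⟩
      obtain ⟨x, rfl⟩ := Submodule.Quotient.mk_surjective _ x
      have hd : (x : V) - (w : V) ∈ P := (Submodule.Quotient.eq (P.submoduleOf W) (x := Submodule.inclusion h2 x) (y := w)).1 hx
      refine (Submodule.Quotient.mk_eq_zero _).2 (show (w : V) ∈ Q from ?_)
      have := Submodule.sub_mem _ x.2 (h1 hd)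
      rwa [sub_sub_cancel] at this

theorem qlen_inf_sup (P Q : Submodule R V) : qlen (P ⊓ Q) P = qlen Q (P ⊔ Q) := by
  let e := LinearMap.quotientInfEquivSupQuotient P Q
  refine Eq.trans ?_ e.length_eq
  refine congrArg (fun S => Module.length R (↥P ⧸ S)) ?_
  ext x
  exact ⟨fun h => ⟨x.2, h.2⟩, fun h => ⟨x.2, h.2⟩⟩

theorem qlen_singleton (P : Submodule R V) (v : V) :
    ∃ a : R →ₗ[R] ↥(P ⊔ Submodule.span R {v}) ⧸ P.submoduleOf (P ⊔ Submodule.span R {v}),
      Function.Surjective a ∧ ∀ r, a r = 0 ↔ r • v ∈ P := by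
  let W := P ⊔ Submodule.span R {v}
  refine ⟨(P.submoduleOf W).mkQ ∘ₗ LinearMap.toSpanSingleton R W
    ⟨v, le_sup_right (a := P) (Submodule.mem_span_singleton_self v)⟩, fun z => ?_,
    fun r => (Submodule.Quotient.mk_eq_zero _)⟩
  obtain ⟨⟨z, hz⟩, rfl⟩ := Submodule.mkQ_surjective _ z
  obtain ⟨s, hs, t, ht, rfl⟩ := Submodule.mem_sup.1 hz
  obtain ⟨r, rfl⟩ := Submodule.mem_span_singleton.1 ht
  exact ⟨r, (Submodule.Quotient.eq _).2 (show r • v - (s + r • v) ∈ P by
    rw [sub_add_cancel_right]; exact P.neg_mem hs)⟩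

end QLen

variable {R : Type u} [CommRing R] [IsNoetherianRing R] [IsLocalRing R] (q : Ideal R) [q.IsPrime]
  (hq : ringKrullDim (R ⧸ q) = 1)
  {V : Type u} [AddCommGroup V] [Module R V] [Module (Localization.AtPrime q) V]
  [IsScalarTower R (Localization.AtPrime q) V] (T : Submodule R V)

/-- The lattice below a step of a tuple. -/
def A {l : ℕ} (e : Fin l → V) (i : ℕ) : Submodule R V :=
  T ⊓ (spanBefore (Localization.AtPrime q) V e i).restrictScalars R

/-- The index of a tuple. -/
def idx {l : ℕ} (e : Fin l → V) : ℕ∞ := ∑ i : Fin l, qlen (A q T e i ⊔ Submodule.span R {e i}) (A q T e (i + 1))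

theorem A_mono {l : ℕ} (e : Fin l → V) {i j : ℕ} (h : i ≤ j) : A q T e i ≤ A q T e j :=
  inf_le_inf_left _ fun _ hx => before_mono e h hx

theorem self_mem_A {l : ℕ} (e : Fin l → V) (hT : ∀ p, e p ∈ T) (i : Fin l) {k : ℕ} (hk : (i : ℕ) < k) :
    e i ∈ A q T e k :=
  ⟨hT i, mem_before e i hk⟩

theorem smul_mem_A {l : ℕ} (e : Adm (Localization.AtPrime q) V l) (hT : ∀ p, e.1 p ∈ T) (i : Fin l) {r : R}
    (hr : r ∈ q) : r • e.1 i ∈ A q T e.1 i := by
  refine ⟨T.smul_mem r (hT i), ?_⟩
  show r • e.1 i ∈ spanBefore _ V e.1 i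
  rw [← algebraMap_smul (Localization.AtPrime q) r]
  exact e.2 i _ ((IsLocalization.AtPrime.to_map_mem_maximal_iff (Localization.AtPrime q) q r).2 hr)

theorem smul_mem_A_iff {l : ℕ} (hl : Module.length (Localization.AtPrime q) V = l)
    (e : Adm (Localization.AtPrime q) V l) (hs : Spans e) (hT : ∀ p, e.1 p ∈ T) (i : Fin l) (r : R) :
    r • e.1 i ∈ A q T e.1 i ↔ r ∈ q := by
  refine ⟨fun h => ?_, smul_mem_A q T e hT i⟩
  by_contra hr
  have h2 : r • e.1 i ∈ spanBefore (Localization.AtPrime q) V e.1 i := h.2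
  rw [← algebraMap_smul (Localization.AtPrime q) r] at h2
  exact not_spans_of_mem hl e ((Submodule.smul_mem_iff_of_isUnit _
    (IsLocalization.map_units (Localization.AtPrime q) (⟨r, hr⟩ : q.primeCompl))).1 h2) hs

/-- The order along `R/q`. -/
def ordq (x : q.ResidueField) : ℤ := CycAlg.ordFrac (R ⧸ q) q.ResidueField x

include hq in
theorem ord_ne_top {d : R} (hd : d ∉ q) :
    ∃ n : ℕ, Ring.ord (R ⧸ q) (Ideal.Quotient.mk q d) = n ∧
      ordq q (algebraMap (R ⧸ q) q.ResidueField (Ideal.Quotient.mk q d)) = n := by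
  haveI : Ring.KrullDimLE 1 (R ⧸ q) := Ring.krullDimLE_iff.2 hq.le
  have hd0 : Ideal.Quotient.mk q d ≠ 0 := fun h => hd (Ideal.Quotient.eq_zero_iff_mem.1 h)
  refine ⟨(Ring.ord (R ⧸ q) (Ideal.Quotient.mk q d)).toNat, ?_, ?_⟩
  · exact (ENat.natCast_toNat (Ring.ord_ne_top (mem_nonZeroDivisors_of_ne_zero hd0))).symm
  · exact CycNorm.ordFrac_algebraMap hd0

theorem qlen_smul {l : ℕ} (hl : Module.length (Localization.AtPrime q) V = l)
    (e : Adm (Localization.AtPrime q) V l) (hs : Spans e) (hT : ∀ p, e.1 p ∈ T) (i : Fin l) (d : R) :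
    qlen (A q T e.1 i ⊔ Submodule.span R {d • e.1 i}) (A q T e.1 i ⊔ Submodule.span R {e.1 i}) =
      Ring.ord (R ⧸ q) (Ideal.Quotient.mk q d) := by
  let B := A q T e.1 i
  obtain ⟨a, ha, hker⟩ := qlen_singleton (B ⊔ Submodule.span R {d • e.1 i}) (e.1 i)
  have heq : B ⊔ Submodule.span R {d • e.1 i} ⊔ Submodule.span R {e.1 i} = B ⊔ Submodule.span R {e.1 i} := by
    rw [sup_assoc, sup_eq_right.2 (Submodule.span_le.2 (Set.singleton_subset_iff.2
      (Submodule.smul_mem _ d (Submodule.mem_span_singleton_self (e.1 i)))))]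
  rw [← heq]
  unfold qlen Ring.ord
  let π : R →ₗ[R] (R ⧸ q) ⧸ Ideal.span {Ideal.Quotient.mk q d} :=
    ((Ideal.span {Ideal.Quotient.mk q d}).mkQ.restrictScalars R) ∘ₗ (Submodule.mkQ q)
  have hπ : Function.Surjective π :=
    (Submodule.mkQ_surjective _).comp (Submodule.mkQ_surjective _)
  have hkk : LinearMap.ker a = LinearMap.ker π := by
    ext r
    rw [LinearMap.mem_ker, hker, LinearMap.mem_ker,
      show π r = Submodule.Quotient.mk (Ideal.Quotient.mk q r) from rfl, Submodule.Quotient.mk_eq_zero,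
      Ideal.mem_span_singleton', Submodule.mem_sup]
    constructor
    · rintro ⟨b, hb, w, hw, hbw⟩
      obtain ⟨s, rfl⟩ := Submodule.mem_span_singleton.1 hw
      refine ⟨Ideal.Quotient.mk q s, ?_⟩
      have h1 : (r - s * d) • e.1 i ∈ B := by
        rw [sub_smul, mul_smul, ← hbw, add_sub_cancel_right]; exact hb
      rw [← map_mul, eq_comm, Ideal.Quotient.mk_eq_mk_iff_sub_mem]
      exact (smul_mem_A_iff q T hl e hs hT i _).1 h1
    · rintro ⟨s, hs'⟩
      obtain ⟨s, rfl⟩ := Ideal.Quotient.mk_surjective s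
      rw [← map_mul, eq_comm, Ideal.Quotient.mk_eq_mk_iff_sub_mem] at hs'
      exact ⟨_, smul_mem_A q T e hT i hs', s • d • e.1 i,
        Submodule.smul_mem _ _ (Submodule.mem_span_singleton_self _), by
          rw [sub_smul, mul_smul, sub_add_cancel]⟩
  rw [← (LinearMap.quotKerEquivOfSurjective a ha).length_eq, (Submodule.quotEquivOfEq _ _ hkk).length_eq,
    (LinearMap.quotKerEquivOfSurjective π hπ).length_eq]
  exact Module.length_eq_of_surjective Ideal.Quotient.mk_surjective

include hq in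
theorem change_eq {l : ℕ} (hl : Module.length (Localization.AtPrime q) V = l)
    {e e' : Adm (Localization.AtPrime q) V l} (hs : Spans e) (hs' : Spans e') (hT : ∀ p, e.1 p ∈ T)
    (hT' : ∀ p, e'.1 p ∈ T) {a : Fin l} {c : (Localization.AtPrime q)ˣ} (h : Change e.1 e'.1 a c) :
    ∃ m n : ℕ, idx q T e.1 + m = idx q T e'.1 + n ∧
      residue _ (c : Localization.AtPrime q) ≠ 0 ∧
      ordq q (residue (Localization.AtPrime q) (c : Localization.AtPrime q)) = (n : ℤ) - m := by
  classical
  obtain ⟨⟨a₀, d⟩, hd⟩ := IsLocalization.surj q.primeCompl (c : Localization.AtPrime q)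
  dsimp only at hd
  have ha₀ : a₀ ∉ q := fun hmem => by
    have h1 := (IsLocalization.AtPrime.to_map_mem_maximal_iff (Localization.AtPrime q) q a₀).2 hmem
    rw [← hd, mem_maximalIdeal] at h1
    exact h1 (c.isUnit.mul (IsLocalization.map_units _ d))
  obtain ⟨m, hm, hm'⟩ := ord_ne_top q hq (d := (d : R)) d.2
  obtain ⟨n, hn, hn'⟩ := ord_ne_top q hq ha₀
  have hA : ∀ k, A q T e.1 k = A q T e'.1 k := fun k => by rw [A, A, h.before_eq]
  have hsup : A q T e.1 a ⊔ Submodule.span R {(d : R) • e.1 a} = A q T e.1 a ⊔ Submodule.span R {a₀ • e'.1 a} := by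
    have hmem : (d : R) • e.1 a - a₀ • e'.1 a ∈ A q T e.1 a := by
      refine ⟨T.sub_mem (T.smul_mem _ (hT a)) (T.smul_mem _ (hT' a)), ?_⟩
      show _ ∈ spanBefore _ V e.1 a
      rw [← algebraMap_smul (Localization.AtPrime q) (d : R), ← algebraMap_smul (Localization.AtPrime q) a₀, ← hd,
        mul_comm, mul_smul, ← smul_sub]
      exact Submodule.smul_mem _ _ h.2
    refine le_antisymm (sup_le le_sup_left (Submodule.span_le.2 (Set.singleton_subset_iff.2 ?_)))
      (sup_le le_sup_left (Submodule.span_le.2 (Set.singleton_subset_iff.2 ?_)))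
    · rw [← sub_add_cancel ((d : R) • e.1 a) (a₀ • e'.1 a)]
      exact Submodule.add_mem_sup hmem (Submodule.mem_span_singleton_self _)
    · rw [← sub_sub_cancel ((d : R) • e.1 a) (a₀ • e'.1 a), sub_eq_neg_add]
      exact Submodule.add_mem_sup (Submodule.neg_mem _ hmem) (Submodule.mem_span_singleton_self _)
  have key : qlen (A q T e.1 a ⊔ Submodule.span R {e.1 a}) (A q T e.1 (a + 1)) + m =
      qlen (A q T e'.1 a ⊔ Submodule.span R {e'.1 a}) (A q T e'.1 (a + 1)) + n := by
    rw [← hm, ← hn, ← qlen_smul q T hl e hs hT a d, ← qlen_smul q T hl e' hs' hT' a a₀, add_comm,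
      add_comm (qlen (A q T e'.1 a ⊔ _) _)]
    rw [← qlen_add, ← qlen_add, hsup, hA a, hA (a + 1)]
    · exact sup_le le_sup_left (Submodule.span_le.2 (Set.singleton_subset_iff.2
        (le_sup_right (a := A q T e'.1 a) (Submodule.smul_mem _ _ (Submodule.mem_span_singleton_self _)))))
    · exact sup_le (A_mono q T _ (Nat.le_succ _)) (Submodule.span_le.2 (Set.singleton_subset_iff.2
        (self_mem_A q T e'.1 hT' a (Nat.lt_succ_self _))))
    · exact sup_le le_sup_left (Submodule.span_le.2 (Set.singleton_subset_iff.2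
        (le_sup_right (a := A q T e.1 a) (Submodule.smul_mem _ _ (Submodule.mem_span_singleton_self _)))))
    · exact sup_le (A_mono q T _ (Nat.le_succ _)) (Submodule.span_le.2 (Set.singleton_subset_iff.2
        (self_mem_A q T e.1 hT a (Nat.lt_succ_self _))))
  have hc0 : residue _ (c : Localization.AtPrime q) ≠ 0 := (c.isUnit.map _).ne_zero
  refine ⟨m, n, ?_, hc0, ?_⟩
  · rw [idx, idx, ← Finset.add_sum_erase _ _ (Finset.mem_univ a), ← Finset.add_sum_erase _ _ (Finset.mem_univ a)]
    rw [Finset.sum_congr rfl fun p hp => by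
      rw [h.1 p (Finset.ne_of_mem_erase hp), hA, hA], add_right_comm, key, add_right_comm]
  · have hmul := congrArg (residue (Localization.AtPrime q)) hd
    rw [map_mul] at hmul
    have hdr : ∀ r : R, residue (Localization.AtPrime q) (algebraMap R _ r) =
        algebraMap (R ⧸ q) q.ResidueField (Ideal.Quotient.mk q r) := fun r => rfl
    rw [hdr, hdr] at hmul
    have := congrArg (ordq q) hmul
    rw [show ordq q (residue (Localization.AtPrime q) (c : Localization.AtPrime q) *
        algebraMap (R ⧸ q) q.ResidueField (Ideal.Quotient.mk q (d : R))) = _ from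
      C1Cap.ordFrac_mul hc0 (by
        rw [← hdr]
        exact ((IsLocalization.map_units (Localization.AtPrime q) d).map _).ne_zero)] at this
    change ordq q (residue _ (c : Localization.AtPrime q)) + ordq q _ = ordq q _ at this
    rw [hm', hn'] at this
    omega

theorem swap_eq {l : ℕ} (hl : Module.length (Localization.AtPrime q) V = l)
    {e e' : Adm (Localization.AtPrime q) V l} (hs : Spans e) (hs' : Spans e') (hT : ∀ p, e.1 p ∈ T)
    (hT' : ∀ p, e'.1 p ∈ T) {a b : Fin l} (h : Swap (R := Localization.AtPrime q) e.1 e'.1 a b) :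
    idx q T e.1 = idx q T e'.1 := by
  classical
  have hab := h.1
  have hne : a ≠ b := fun hh => by rw [hh] at hab; omega
  have hA : ∀ k, k ≠ (a : ℕ) → A q T e'.1 k = A q T e.1 k := fun k hk => by
    rw [A, A, h.2.2, before_comp_swap e.1 hab hk]
  have hea : e'.1 a = e.1 b := by rw [h.2.2, Function.comp_apply, Equiv.swap_apply_left]
  have heb : e'.1 b = e.1 a := by rw [h.2.2, Function.comp_apply, Equiv.swap_apply_right]
  have hqa : ∀ r ∈ q, r • e.1 a ∈ A q T e.1 b := fun r hr => by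
    refine ⟨T.smul_mem r (hT a), ?_⟩
    show r • e.1 a ∈ spanBefore _ V e.1 b
    rw [← algebraMap_smul (Localization.AtPrime q) r]
    exact h.2.1 _ ((IsLocalization.AtPrime.to_map_mem_maximal_iff (Localization.AtPrime q) q r).2 hr)
  have half : ∀ (g : Adm (Localization.AtPrime q) V l), Spans g → (∀ p, g.1 p ∈ T) →
      (∀ r ∈ q, r • g.1 a ∈ A q T g.1 b) →
      qlen (A q T g.1 b ⊔ Submodule.span R {g.1 b}) (A q T g.1 (b + 1)) +
        qlen (A q T g.1 a ⊔ Submodule.span R {g.1 a}) (A q T g.1 (a + 1)) =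
      qlen (A q T g.1 b ⊔ Submodule.span R {g.1 b} ⊔ Submodule.span R {g.1 a}) (A q T g.1 (a + 1)) := by
    intro g hg hgT hgm
    have hb1 : A q T g.1 (b + 1) = A q T g.1 a := by rw [hab]
    let P := A q T g.1 b ⊔ Submodule.span R {g.1 b}
    have hP : P ≤ A q T g.1 a := sup_le (A_mono q T _ (by omega)) (Submodule.span_le.2
      (Set.singleton_subset_iff.2 (self_mem_A q T g.1 hgT b (by omega))))
    have hmod : A q T g.1 a ⊓ (P ⊔ Submodule.span R {g.1 a}) = P := by
      refine le_antisymm (fun x hx => ?_) (le_inf hP le_sup_left)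
      obtain ⟨s, hs1, w, hw, rfl⟩ := Submodule.mem_sup.1 hx.2
      obtain ⟨r, rfl⟩ := Submodule.mem_span_singleton.1 hw
      have h1 : r • g.1 a ∈ A q T g.1 a := by
        have := Submodule.sub_mem _ hx.1 (hP hs1)
        rwa [add_sub_cancel_left] at this
      exact Submodule.add_mem _ hs1
        (le_sup_left (b := Submodule.span R {g.1 b}) (hgm r ((smul_mem_A_iff q T hl g hg hgT a r).1 h1)))
    have hsup : A q T g.1 a ⊔ (P ⊔ Submodule.span R {g.1 a}) = A q T g.1 a ⊔ Submodule.span R {g.1 a} := by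
      rw [← sup_assoc, sup_eq_left.2 hP]
    rw [hb1, show qlen P (A q T g.1 a) = qlen (P ⊔ Submodule.span R {g.1 a})
      (A q T g.1 a ⊔ Submodule.span R {g.1 a}) by
        rw [← hsup, ← qlen_inf_sup, hmod], ← qlen_add]
    · exact sup_le (hP.trans le_sup_left) le_sup_right
    · exact sup_le (A_mono q T _ (Nat.le_succ _)) (Submodule.span_le.2
        (Set.singleton_subset_iff.2 (self_mem_A q T g.1 hgT a (Nat.lt_succ_self _))))
  have hqb : ∀ r ∈ q, r • e'.1 a ∈ A q T e'.1 b := fun r hr => by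
    rw [hea, hA b (by omega)]
    exact smul_mem_A q T e hT b hr
  rw [idx, idx, ← Finset.add_sum_erase _ _ (Finset.mem_univ b), ← Finset.add_sum_erase _ _ (Finset.mem_univ b),
    ← Finset.add_sum_erase _ _ (Finset.mem_erase.2 ⟨hne, Finset.mem_univ a⟩),
    ← Finset.add_sum_erase _ _ (Finset.mem_erase.2 ⟨hne, Finset.mem_univ a⟩), ← add_assoc, ← add_assoc,
    half e hs hT hqa, half e' hs' hT' hqb]
  congr 1
  · rw [hea, heb, hA b (by omega), hA (a + 1) (by omega), sup_assoc, sup_assoc, sup_comm (Submodule.span R {e.1 b})]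
  · refine Finset.sum_congr rfl fun p hp => ?_
    obtain ⟨hpa, hp'⟩ := Finset.mem_erase.1 hp
    obtain ⟨hpb, -⟩ := Finset.mem_erase.1 hp'
    have hpa' : (p : ℕ) ≠ a := fun hh => hpa (Fin.ext hh)
    have hpb' : (p : ℕ) ≠ b := fun hh => hpb (Fin.ext hh)
    rw [hA p hpa', hA (p + 1) (by omega), show e'.1 p = e.1 p by
      rw [h.2.2, Function.comp_apply, Equiv.swap_apply_of_ne_of_ne hpa hpb]]

include hq in
/-- The index measures the determinant. -/
theorem idx_eq {l : ℕ} (hl : Module.length (Localization.AtPrime q) V = l)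
    {ex ey : Adm (Localization.AtPrime q) V l} (hsx : Spans ex) (hsy : Spans ey) (hTx : ∀ p, ex.1 p ∈ T)
    (hTy : ∀ p, ey.1 p ∈ T) (f : q.ResidueField) (h0 : idx q T ey.1 = 0) (hf : cls ex = f • cls ey) :
    ∃ n : ℕ, idx q T ex.1 = n ∧ (n : ℤ) = ordq q f := by
  obtain ⟨ψ, hψ, hψy⟩ := exists_functional l hl ey hsy
  let G : Adm (Localization.AtPrime q) V l → Prop := fun g =>
    ∃ n : ℕ, idx q T g.1 = n ∧ ψ g ≠ 0 ∧ (n : ℤ) = ordq q (ψ g)
  have key : G ey → G ex := by
    refine connect hl (T : Set V) (fun g g' => G g' → G g) (fun _ h => h) (fun _ _ _ h1 h2 h => h1 (h2 h))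
      ?_ ?_ ex ey hsx hsy hTx hTy
    · intro g g' a c hs hs' hgT hgT' hch ⟨n', hn', hne', he'⟩
      obtain ⟨m, n, hidx, hc0, hord⟩ := change_eq q hq T hl hs hs' hgT hgT' hch
      rw [hn'] at hidx
      have hfin : idx q T g.1 ≠ ⊤ := fun htop => by
        rw [htop, top_add] at hidx
        exact ENat.natCast_ne_top (n' + n) (by rw [Nat.cast_add]; exact hidx.symm)
      obtain ⟨k, hk⟩ := ENat.ne_top_iff_exists.1 hfin
      rw [← hk] at hidx
      norm_cast at hidx
      have hψg : ψ g = residue _ (c : Localization.AtPrime q) * ψ g' := hψ.change g g' a c hch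
      refine ⟨k, hk.symm, by rw [hψg]; exact mul_ne_zero hc0 hne', ?_⟩
      rw [hψg, show ordq q (residue (Localization.AtPrime q) (c : Localization.AtPrime q) * ψ g') = _ from
        C1Cap.ordFrac_mul hc0 hne']
      change _ = ordq q _ + ordq q _
      omega
    · intro g g' a b hs hs' hgT hgT' hsw ⟨n', hn', hne', he'⟩
      have hψg : ψ g = -ψ g' := eq_neg_of_add_eq_zero_left (hψ.swap g g' a b hsw)
      refine ⟨n', (swap_eq q T hl hs hs' hgT hgT' hsw).trans hn', by rw [hψg]; exact neg_ne_zero.2 hne', ?_⟩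
      rw [hψg, neg_eq_neg_one_mul, show ordq q ((-1 : q.ResidueField) * ψ g') = _ from
        C1Cap.ordFrac_mul (neg_ne_zero.2 one_ne_zero) hne', he']
      rw [show CycAlg.ordFrac (R ⧸ q) q.ResidueField (-1 : q.ResidueField) = 0 by
        rw [show (-1 : q.ResidueField) = algebraMap (R ⧸ q) q.ResidueField (-1) by rw [map_neg, map_one]]
        exact C1Cap.ordFrac_isUnit isUnit_one.neg, zero_add]
      rfl
  obtain ⟨n, hn, -, he⟩ := key ⟨0, by simpa using h0, by rw [hψy]; exact one_ne_zero, by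
    rw [hψy, show (1 : q.ResidueField) = algebraMap (R ⧸ q) q.ResidueField 1 from (map_one _).symm]
    exact (C1Cap.ordFrac_isUnit isUnit_one).symm⟩
  refine ⟨n, hn, ?_⟩
  have hval : ψ ex = f := by
    have := congrArg (hψ.lift hl) hf
    rw [map_smul, cls, cls, hψ.lift_mk, hψ.lift_mk, hψy, smul_eq_mul, mul_one] at this
    exact this
  rw [← hval]
  exact he

end Groth.Agent.CycDetLib
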